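import Cfsg.Agent.SLDeg.Main
import Cfsg.Agent.Char.Basic
import Cfsg.Agent.Classical.LinearBasic

/-!
Nontrivial representations of special linear groups are large.
-/

set_option autoImplicit false
set_option linter.unusedSectionVars false

namespace Cfsg.Agent.OrthDeg

open Module SLDeg

variable {m : ℕ} {F : Type*} [Field F] [Fintype F]

/-- A representation that is not trivial is at least as large as the smallest nontrivial irreducible one. -/
theorem sl_rep_large_gen [DecidableEq F] {W : Type*} [AddCommGroup W] [Module ℂ W] [FiniteDimensional ℂ W]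
    (π : Representation ℂ (SLn (m + 3) F) W) (h3 : m = 0 → Fintype.card F ≠ 2 ∧ Fintype.card F ≠ 4) (h4 : m = 1 → 3 < Fintype.card F) (hne : ∃ g w, π g w ≠ w) :
    (Fintype.card F ^ (m + 3) - Fintype.card F) / (Fintype.card F - 1) ≤ finrank ℂ W := by
  classical
  set H := SLn (m + 3) F
  haveI : Invertible (Fintype.card H : ℂ) := invertibleOfNonzero (Nat.cast_ne_zero.2 Fintype.card_ne_zero)
  let P : W →ₗ[ℂ] W := (Fintype.card H : ℂ)⁻¹ • ∑ h, π h
  have hPinv : ∀ g w, P (π g w) = P w := fun g w => by
    simp only [P, LinearMap.smul_apply, LinearMap.sum_apply]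
    congr 1
    exact Fintype.sum_equiv (Equiv.mulRight g) _ (fun h => π h w) fun h => by
      rw [Equiv.coe_mulRight, map_mul, Module.End.mul_apply]
  have hPfix : ∀ w, (∀ g, π g w = w) → P w = w := fun w hw => by
    simp only [P, LinearMap.smul_apply, LinearMap.sum_apply, hw, Finset.sum_const, Finset.card_univ]
    rw [← Nat.cast_smul_eq_nsmul ℂ, smul_smul, inv_mul_cancel₀ (Nat.cast_ne_zero.2 Fintype.card_ne_zero), one_smul]
  have hfixP : ∀ g w, π g (P w) = P w := fun g w => by
    simp only [P, LinearMap.smul_apply, LinearMap.sum_apply, map_smul, map_sum]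
    congr 1
    exact Fintype.sum_equiv (Equiv.mulLeft g) _ (fun h => π h w) fun h => by
      rw [Equiv.coe_mulLeft, map_mul, Module.End.mul_apply]
  let C := LinearMap.ker P
  have hCinv : ∀ g, ∀ w ∈ C, π g w ∈ C := fun g w hw => by
    rw [LinearMap.mem_ker, hPinv]; exact LinearMap.mem_ker.1 hw
  have hC0 : C ≠ ⊥ := fun h => by
    obtain ⟨g, w, hw⟩ := hne
    have h1 : π g w - w ∈ C := by rw [LinearMap.mem_ker, map_sub, hPinv, sub_self]
    rw [h, Submodule.mem_bot, sub_eq_zero] at h1
    exact hw h1
  -- a smallest invariant subspace of the complement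
  have hex : ∃ d, ∃ S : Submodule ℂ W, S ≤ C ∧ S ≠ ⊥ ∧ (∀ g, ∀ w ∈ S, π g w ∈ S) ∧ finrank ℂ S = d :=
    ⟨_, C, le_rfl, hC0, hCinv, rfl⟩
  obtain ⟨S, hSC, hS0, hSinv, hSd⟩ := Nat.find_spec hex
  let σ : Representation ℂ H S :=
    { toFun := fun g => (π g).restrict (hSinv g)
      map_one' := by ext w; simp
      map_mul' := fun g g' => by ext w; simp }
  have hirr : σ.IsIrreducible := by
    refine Char.isIrreducible_iff.2 ⟨Submodule.nontrivial_iff_ne_bot.2 hS0, fun U hU => ?_⟩
    by_contra hc
    push Not at hc
    have hlt : finrank ℂ (U.map S.subtype) < finrank ℂ S := by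
      rw [Submodule.finrank_map_subtype_eq]
      exact Submodule.finrank_lt hc.2
    refine Nat.find_min hex (hlt.trans_eq hSd) ⟨U.map S.subtype, (Submodule.map_subtype_le S U).trans hSC,
      fun h => hc.1 (Submodule.map_injective_of_injective S.injective_subtype (h.trans (Submodule.map_bot _).symm)),
      ?_, rfl⟩
    rintro g _ ⟨u, hu, rfl⟩
    exact ⟨σ g u, hU g u hu, rfl⟩
  have hnofix : ∀ w : S, (∀ g, σ g w = w) → w = 0 := fun w hw => by
    have h1 : P (w : W) = w := hPfix _ fun g => congrArg Subtype.val (hw g)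
    rw [LinearMap.mem_ker.1 (hSC w.2)] at h1
    exact Subtype.ext h1.symm
  have hk : 2 ≤ finrank ℂ S := by
    by_contra hk
    have h1 : finrank ℂ S = 1 := by
      have := Submodule.one_le_finrank_iff.2 hS0
      omega
    obtain ⟨v, hv0, hv⟩ := finrank_eq_one_iff'.1 h1
    choose c hc using fun g => hv (σ g v)
    have hinj : ∀ a b : ℂ, a • v = b • v → a = b := fun a b h => smul_left_injective ℂ hv0 h
    let cu : H →* ℂ :=
      { toFun := c
        map_one' := hinj _ _ (by rw [hc, map_one, one_smul]; rfl)
        map_mul' := fun g g' => hinj _ _ (by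
          rw [hc, map_mul, Module.End.mul_apply, ← hc g', map_smul, ← hc g, smul_smul, mul_comm]) }
    have hcu : ∀ g, cu g = 1 := fun g => by
      have hg : g ∈ commutator H := by
        rw [Classical.commutator_sl_eq_top (Or.inl (by simp))]; trivial
      have := Abelianization.commutator_subset_ker cu.toHomUnits hg
      exact congrArg Units.val (MonoidHom.mem_ker.1 this)
    exact hv0 (hnofix v fun g => by rw [← hc g, show c g = 1 from hcu g, one_smul])
  have hle := degree_ge (m := m) (F := F) h3 h4 (finrank ℂ S)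
    (Char.transport (Module.finBasis ℂ S).equivFun σ) (Char.isIrreducible_transport _ hirr) hk
  exact hle.trans (Submodule.finrank_le S)

/-- A representation that is not trivial is at least as large as the smallest nontrivial irreducible one. -/
theorem sl_rep_large [DecidableEq F] {W : Type*} [AddCommGroup W] [Module ℂ W] [FiniteDimensional ℂ W]
    (π : Representation ℂ (SLn (m + 4) F) W) (h3 : 3 < Fintype.card F) (hne : ∃ g w, π g w ≠ w) :
    (Fintype.card F ^ (m + 4) - Fintype.card F) / (Fintype.card F - 1) ≤ finrank ℂ W :=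
  sl_rep_large_gen (m := m + 1) π (fun h => absurd h (by omega)) (fun _ => h3) hne

end Cfsg.Agent.OrthDeg
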