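import Cfsg.Agent.SLDeg.Mat
import Cfsg.Agent.Classical.Linear2
import Mathlib.LinearAlgebra.Matrix.GeneralLinearGroup.Card

/-!
Alternating matrices over a finite field: the pairing, normal forms under congruence, the orbit of rank two.
-/

set_option autoImplicit false
set_option linter.unusedSectionVars false

namespace Cfsg.Agent.OrthDeg

open Matrix Module SLDeg

variable {F : Type*} [Field F] {n m : ℕ}

/-- The alternating matrices. -/
def AltM (n : ℕ) (F : Type*) [Field F] : AddSubgroup (Matrix (Fin n) (Fin n) F) where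
  carrier := {K | Kᵀ = -K ∧ ∀ i, K i i = 0}
  zero_mem' := ⟨by simp, fun i => rfl⟩
  add_mem' := fun {S T} hS hT => ⟨by rw [transpose_add, hS.1, hT.1]; abel, fun i => by simp [hS.2 i, hT.2 i]⟩
  neg_mem' := fun {S} hS => ⟨by rw [transpose_neg, hS.1], fun i => by simp [hS.2 i]⟩

theorem alt_swap (K : AltM n F) (i j : Fin n) : K.1 j i = -K.1 i j := congrFun (congrFun K.2.1 i) j

theorem alt_diag (K : AltM n F) (i : Fin n) : K.1 i i = 0 := K.2.2 i

/-- The upper triangle. -/
def upper (K : Matrix (Fin n) (Fin n) F) : Matrix (Fin n) (Fin n) F := Matrix.of fun i j => if i < j then K i j else 0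

theorem upper_apply (K : Matrix (Fin n) (Fin n) F) (i j : Fin n) : upper K i j = if i < j then K i j else 0 := rfl

theorem upper_sub (K : AltM n F) : upper K.1 - (upper K.1)ᵀ = K.1 := by
  ext i j
  rw [Matrix.sub_apply, transpose_apply, upper_apply, upper_apply]
  rcases lt_trichotomy i j with h | h | h
  · rw [if_pos h, if_neg h.not_gt, sub_zero]
  · subst h; simp [alt_diag]
  · rw [if_neg h.not_gt, if_pos h, alt_swap K i j]; simp

/-- The pairing of two alternating matrices. -/
def pair (K B : AltM n F) : F := ∑ i, ∑ j, if i < j then K.1 i j * B.1 i j else 0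

theorem pair_comm (K B : AltM n F) : pair K B = pair B K := by simp [pair, mul_comm]

theorem pair_add (K B B' : AltM n F) : pair K (B + B') = pair K B + pair K B' := by
  simp only [pair, ← Finset.sum_add_distrib]
  refine Finset.sum_congr rfl fun i _ => Finset.sum_congr rfl fun j _ => ?_
  split_ifs <;> simp [mul_add]

theorem sum_eq_trace (M B : Matrix (Fin n) (Fin n) F) : ∑ i, ∑ j, M i j * B i j = (Mᵀ * B).trace := by
  simp only [trace, diag, mul_apply, transpose_apply]
  exact Finset.sum_comm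

theorem pair_eq {M : Matrix (Fin n) (Fin n) F} {K : AltM n F} (hM : M - Mᵀ = K.1) (B : AltM n F) :
    pair K B = (Mᵀ * B.1).trace := by
  rw [← sum_eq_trace]
  have h0 : pair K B = ∑ i, ∑ j, upper K.1 i j * B.1 i j := by
    simp [pair, upper_apply]
  rw [h0, ← sub_eq_zero, ← Finset.sum_sub_distrib]
  simp_rw [← Finset.sum_sub_distrib, ← sub_mul]
  rw [← Fintype.sum_prod_type' (f := fun i j => (upper K.1 i j - M i j) * B.1 i j)]
  have hsym : ∀ i j, upper K.1 i j - M i j = upper K.1 j i - M j i := fun i j => by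
    have h1 := congrFun (congrFun (upper_sub K) i) j
    have h2 := congrFun (congrFun hM i) j
    rw [Matrix.sub_apply, transpose_apply] at h1 h2
    linear_combination h1 - h2
  refine Finset.sum_involution (fun p _ => p.swap) (fun p _ => ?_) (fun p _ hp => ?_) (fun p _ => Finset.mem_univ _)
    fun p _ => Prod.swap_swap p
  · simp only [Prod.fst_swap, Prod.snd_swap]
    rw [alt_swap B p.1 p.2, hsym p.2 p.1]
    ring
  · intro h
    rcases p with ⟨a, b⟩
    simp only [Prod.swap_prod_mk, Prod.mk.injEq] at h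
    rw [h.1] at hp
    simp [alt_diag] at hp

/-- Congruence. -/
def act (A : Matrix (Fin n) (Fin n) F) : AltM n F →+ AltM n F where
  toFun K := ⟨A * K.1 * Aᵀ, by
    refine ⟨by rw [transpose_mul, transpose_mul, transpose_transpose, K.2.1]; simp [Matrix.mul_assoc], fun i => ?_⟩
    have h : A * K.1 * Aᵀ = A * upper K.1 * Aᵀ - (A * upper K.1 * Aᵀ)ᵀ := by
      conv_lhs => rw [← upper_sub K]
      simp [Matrix.mul_sub, Matrix.sub_mul, Matrix.mul_assoc]
    rw [h, Matrix.sub_apply, transpose_apply, sub_self]⟩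
  map_zero' := Subtype.ext (by simp)
  map_add' K L := Subtype.ext (by simp [Matrix.mul_add, Matrix.add_mul])

theorem act_val (A : Matrix (Fin n) (Fin n) F) (K : AltM n F) : (act A K).1 = A * K.1 * Aᵀ := rfl

theorem act_apply (A : Matrix (Fin n) (Fin n) F) (K : AltM n F) (i j : Fin n) :
    (act A K).1 i j = (fun b => A i b) ⬝ᵥ K.1 *ᵥ fun b => A j b := by
  simp only [act_val, Matrix.mul_apply, dotProduct, mulVec, transpose_apply, Finset.sum_mul, Finset.mul_sum]
  rw [Finset.sum_comm]
  exact Finset.sum_congr rfl fun a _ => Finset.sum_congr rfl fun b _ => by ring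

theorem act_one (K : AltM n F) : act 1 K = K := Subtype.ext (by simp [act_val])

theorem act_mul (A B : Matrix (Fin n) (Fin n) F) (K : AltM n F) : act (A * B) K = act A (act B K) :=
  Subtype.ext (by simp [act_val, Matrix.mul_assoc])

theorem act_injective {A : Matrix (Fin n) (Fin n) F} (hA : IsUnit A.det) : Function.Injective (act A) := by
  intro K L h
  have := congrArg (act A⁻¹) h
  rwa [← act_mul, ← act_mul, Matrix.nonsing_inv_mul A hA, act_one, act_one] at this

theorem pair_act (A : Matrix (Fin n) (Fin n) F) (K B : AltM n F) : pair (act A K) B = pair K (act Aᵀ B) := by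
  have h1 : A * upper K.1 * Aᵀ - (A * upper K.1 * Aᵀ)ᵀ = (act A K).1 := by
    rw [act_val]
    conv_rhs => rw [← upper_sub K]
    simp [Matrix.mul_sub, Matrix.sub_mul, Matrix.mul_assoc]
  rw [pair_eq h1, pair_eq (upper_sub K), act_val, transpose_mul, transpose_mul, transpose_transpose,
    Matrix.mul_assoc A, Matrix.trace_mul_comm A]
  simp [Matrix.mul_assoc]

/-- The wedge of two vectors. -/
def wedge (u v : Fin n → F) : AltM n F :=
  ⟨vecMulVec u v - vecMulVec v u, by simp [transpose_vecMulVec], fun i => by simp [vecMulVec_apply, mul_comm]⟩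

theorem wedge_apply (u v : Fin n → F) (i j : Fin n) : (wedge u v).1 i j = u i * v j - v i * u j := rfl

theorem act_wedge (A : Matrix (Fin n) (Fin n) F) (u v : Fin n → F) : act A (wedge u v) = wedge (A *ᵥ u) (A *ᵥ v) :=
  Subtype.ext (by
    show A * (vecMulVec u v - vecMulVec v u) * Aᵀ = vecMulVec (A *ᵥ u) (A *ᵥ v) - vecMulVec (A *ᵥ v) (A *ᵥ u)
    rw [Matrix.mul_sub, Matrix.sub_mul, mul_vecMulVec, mul_vecMulVec, vecMulVec_mul, vecMulVec_mul, vecMul_transpose,
      vecMul_transpose])

/-- The element of rank two. -/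
def K0 (m : ℕ) (F : Type*) [Field F] : AltM (m + 4) F := wedge (e 0) (e 1)

theorem pair_K0 (B : AltM (m + 4) F) : pair (K0 m F) B = B.1 0 1 := by
  rw [pair, Finset.sum_eq_single 0]
  · rw [Finset.sum_eq_single 1]
    · simp [K0, wedge_apply]
    · intro j _ hj
      rcases eq_or_ne j 0 with rfl | hj0 <;> simp [K0, wedge_apply, *]
    · simp
  · intro i _ hi
    refine Finset.sum_eq_zero fun j _ => ?_
    rcases eq_or_ne i 1 with rfl | hi1
    · rcases eq_or_ne j 0 with rfl | hj0
      · simp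
      · simp [K0, wedge_apply, hj0]
    · simp [K0, wedge_apply, hi, hi1]
  · simp

/-! ### Normal forms -/

/-- The transpose in the special linear group. -/
def trSL (g : SLn n F) : SLn n F := mkSL g.1ᵀ (by rw [det_transpose]; exact g.2)

theorem act_trSL (g : SLn n F) (K : AltM n F) (i j : Fin n) :
    (act (trSL g).1 K).1 i j = (g • e i) ⬝ᵥ K.1 *ᵥ (g • e j) := by
  rw [smul_eq, smul_eq, mulVec_single_one, mulVec_single_one, act_apply]
  rfl

theorem e_ne {i j : Fin n} (h : j ≠ i) : (e i : Fin n → F) j = 0 := Pi.single_eq_of_ne h 1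

theorem e_self (i : Fin n) : (e i : Fin n → F) i = 1 := Pi.single_eq_same i 1

theorem bil_single (K : Matrix (Fin n) (Fin n) F) (i j : Fin n) : (e i : Fin n → F) ⬝ᵥ K *ᵥ e j = K i j := by
  simp

/-- A matrix of rank at least four in normal position. -/
def Big (K : AltM (m + 4) F) : Prop :=
  K.1 0 1 = 1 ∧ (∀ j, j ≠ 1 → K.1 0 j = 0) ∧ (∀ j, j ≠ 0 → K.1 1 j = 0) ∧ K.1 2 3 ≠ 0

theorem two_three : (2 : Fin (m + 4)) ≠ 0 ∧ (2 : Fin (m + 4)) ≠ 1 ∧ (3 : Fin (m + 4)) ≠ 0 ∧
    (3 : Fin (m + 4)) ≠ 1 ∧ (2 : Fin (m + 4)) ≠ 3 ∧ (2 : Fin (m + 4)) < 3 := by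
  have h2 : ((2 : Fin (m + 4)) : ℕ) = 2 := two_val
  have h1 : ((1 : Fin (m + 4)) : ℕ) = 1 := one_val
  have h3 : ((3 : Fin (m + 4)) : ℕ) = 3 := by
    show 3 % (m + 4) = 3
    exact Nat.mod_eq_of_lt (by omega)
  simp only [ne_eq, Fin.ext_iff, Fin.lt_def, h1, h2, h3, Fin.val_zero]
  omega

/-- Clearing the first two rows. -/
theorem exists_shear (K : AltM (m + 4) F) (hK : K.1 0 1 = 1) :
    ∃ A : SLn (m + 4) F, (act A.1 K).1 0 1 = 1 ∧ (∀ j, j ≠ 1 → (act A.1 K).1 0 j = 0) ∧
      (∀ j, j ≠ 0 → (act A.1 K).1 1 j = 0) ∧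
      ∀ i j, K.1 0 i = 0 → K.1 1 i = 0 → K.1 0 j = 0 → K.1 1 j = 0 → (act A.1 K).1 i j = K.1 i j := by
  let α : Fin (m + 4) → F := fun k => if k = 0 ∨ k = 1 then 0 else K.1 1 k
  let β : Fin (m + 4) → F := fun k => if k = 0 ∨ k = 1 then 0 else -K.1 0 k
  have ha : α ⬝ᵥ e 0 = 0 := by simp [α]
  have hb : β ⬝ᵥ e 1 = 0 := by simp [β]
  set g := tv (e 0) α ha * tv (e 1) β hb with hg
  have hge : ∀ k, g • (e k : Fin (m + 4) → F) = e k + α k • e 0 + β k • e 1 := fun k => by
    rw [hg, mul_smul, tv_apply, tv_apply]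
    simp only [dotProduct_add, dotProduct_smul, dotProduct_single, mul_one, smul_eq_mul]
    have : α 1 = 0 := by simp [α]
    rw [this, mul_zero, add_zero]
    module
  have hg0 : g • (e 0 : Fin (m + 4) → F) = e 0 := by rw [hge]; simp [α, β]
  have hg1 : g • (e 1 : Fin (m + 4) → F) = e 1 := by rw [hge]; simp [α, β]
  have h00 := alt_diag K 0
  have h11 := alt_diag K 1
  have h10 : K.1 1 0 = -1 := by rw [alt_swap K 0 1, hK]
  refine ⟨trSL g, ?_, fun j hj => ?_, fun j hj => ?_, fun i j hi0 hi1 hj0 hj1 => ?_⟩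
  · rw [act_trSL, hg0, hg1, bil_single, hK]
  · rw [act_trSL, hg0, hge]
    simp only [mulVec_add, mulVec_smul, dotProduct_add, dotProduct_smul, bil_single, h00, hK, smul_eq_mul]
    rcases eq_or_ne j 0 with rfl | hj0
    · simp [h00, β]
    · simp [β, hj, hj0]
  · rw [act_trSL, hg1, hge]
    simp only [mulVec_add, mulVec_smul, dotProduct_add, dotProduct_smul, bil_single, h11, h10, smul_eq_mul]
    rcases eq_or_ne j 1 with rfl | hj1
    · simp [h11, α]
    · simp [α, hj, hj1]
  · have hz : ∀ k, K.1 0 k = 0 → K.1 1 k = 0 → g • (e k : Fin (m + 4) → F) = e k := fun k h0 h1 => by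
      rw [hge]; simp [α, β, h0, h1]
    rw [act_trSL, hz i hi0 hi1, hz j hj0 hj1, bil_single]

theorem li_single {k : ℕ} (f : Fin k → Fin n) (hf : Function.Injective f) :
    LinearIndependent F (fun a => (e (f a) : Fin n → F)) := by
  have h := (Pi.basisFun F (Fin n)).linearIndependent.comp f hf
  simpa [Function.comp_def] using h

/-- The normal forms. -/
theorem exists_normal (K : AltM (m + 4) F) (hK : K ≠ 0) :
    ∃ A : SLn (m + 4) F, act A.1 K = K0 m F ∨ Big (act A.1 K) := by
  obtain ⟨i, j, hij⟩ : ∃ i j, K.1 i j ≠ 0 := by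
    by_contra hc
    push Not at hc
    exact hK (Subtype.ext (Matrix.ext hc))
  have hne : i ≠ j := fun h => hij (by rw [h, alt_diag])
  obtain ⟨g, hg0, hg1⟩ := exists_move2 (m := m + 1) (x₀ := (e i : Fin (m + 4) → F))
    (x₁ := (K.1 i j)⁻¹ • e j) (li_pair (by simp) fun h => by
      obtain ⟨c, hc⟩ := Submodule.mem_span_singleton.1 h
      have := congrFun hc j
      change c • (Pi.single i 1 : Fin (m + 4) → F) j = (K.1 i j)⁻¹ • (Pi.single j 1 : Fin (m + 4) → F) j at this
      rw [Pi.single_eq_of_ne hne.symm, Pi.single_eq_same, smul_zero, smul_eq_mul,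
        mul_one] at this
      exact inv_ne_zero hij this.symm)
  set K₁ := act (trSL g).1 K with hK₁
  have h01 : K₁.1 0 1 = 1 := by
    rw [hK₁, act_trSL, hg0, hg1, mulVec_smul, dotProduct_smul, bil_single, smul_eq_mul, inv_mul_cancel₀ hij]
  obtain ⟨A₂, a01, a0, a1, -⟩ := exists_shear K₁ h01
  set K₂ := act A₂.1 K₁ with hK₂
  by_cases hrest : ∀ k l, k ≠ 0 → k ≠ 1 → l ≠ 0 → l ≠ 1 → K₂.1 k l = 0
  · refine ⟨A₂ * trSL g, Or.inl ?_⟩
    rw [Matrix.SpecialLinearGroup.coe_mul, act_mul, ← hK₁, ← hK₂]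
    refine Subtype.ext (Matrix.ext fun k l => ?_)
    rw [K0, wedge_apply]
    have h10 : K₂.1 1 0 = -1 := by rw [alt_swap K₂ 0 1, a01]
    by_cases hk0 : k = 0
    · subst hk0
      by_cases hl : l = 1
      · subst hl; simp [a01]
      · simp [a0 l hl, hl]
    by_cases hk1 : k = 1
    · subst hk1
      by_cases hl : l = 0
      · subst hl; simp [h10]
      · simp [a1 l hl, hl]
    by_cases hl0 : l = 0
    · subst hl0
      rw [alt_swap K₂ 0 k, a0 k hk1]
      simp [hk0, hk1]
    by_cases hl1 : l = 1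
    · subst hl1
      rw [alt_swap K₂ 1 k, a1 k hk0]
      simp [hk0, hk1]
    simp [hrest k l hk0 hk1 hl0 hl1, hk0, hk1]
  push Not at hrest
  obtain ⟨k, l, hk0, hk1, hl0, hl1, hkl⟩ := hrest
  have hkl' : k ≠ l := fun h => hkl (by rw [h, alt_diag])
  obtain ⟨w, hw, hwv⟩ := extend_li _ (li_single (F := F) (n := m + 4) ![0, 1, k, l] (by
    intro a b h
    fin_cases a <;> fin_cases b <;> simp_all [Ne.symm hk0, Ne.symm hk1, Ne.symm hl0, Ne.symm hl1, Ne.symm hkl'])) (by omega)
  obtain ⟨g', s, hs, hgs, hgne⟩ := exists_of_basis w hw 2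
  have e0 : (Fin.castLE (by omega : 4 ≤ m + 4) 0) = (0 : Fin (m + 4)) := rfl
  obtain ⟨t20, t21, t30, t31, t23, -⟩ := two_three (m := m)
  have c1 : (Fin.castLE (by omega : 4 ≤ m + 4) 1) = (1 : Fin (m + 4)) := Fin.ext (by simp [one_val])
  have c2 : (Fin.castLE (by omega : 4 ≤ m + 4) 2) = (2 : Fin (m + 4)) := Fin.ext (by
    show 2 = 2 % (m + 4)
    exact (Nat.mod_eq_of_lt (by omega : 2 < m + 4)).symm)
  have c3 : (Fin.castLE (by omega : 4 ≤ m + 4) 3) = (3 : Fin (m + 4)) := Fin.ext (by
    show 3 = 3 % (m + 4)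
    exact (Nat.mod_eq_of_lt (by omega : 3 < m + 4)).symm)
  have r0 : g' • (e 0 : Fin (m + 4) → F) = e 0 := by
    rw [hgne 0 t20.symm, ← e0, hwv 0]; simp
  have r1 : g' • (e 1 : Fin (m + 4) → F) = e 1 := by
    rw [hgne 1 t21.symm, ← c1, hwv 1]; simp [c1]
  have r2 : g' • (e 2 : Fin (m + 4) → F) = s • e k := by
    rw [hgs, ← c2, hwv 2]; simp
  have r3 : g' • (e 3 : Fin (m + 4) → F) = e l := by
    rw [hgne 3 t23.symm, ← c3, hwv 3]; simp
  set K₃ := act (trSL g').1 K₂ with hK₃
  have b01 : K₃.1 0 1 = 1 := by rw [hK₃, act_trSL, r0, r1, bil_single, a01]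
  have b02 : K₃.1 0 2 = 0 := by rw [hK₃, act_trSL, r0, r2, mulVec_smul, dotProduct_smul, bil_single, a0 k hk1, smul_zero]
  have b12 : K₃.1 1 2 = 0 := by rw [hK₃, act_trSL, r1, r2, mulVec_smul, dotProduct_smul, bil_single, a1 k hk0, smul_zero]
  have b03 : K₃.1 0 3 = 0 := by rw [hK₃, act_trSL, r0, r3, bil_single, a0 l hl1]
  have b13 : K₃.1 1 3 = 0 := by rw [hK₃, act_trSL, r1, r3, bil_single, a1 l hl0]
  have b23 : K₃.1 2 3 = s * K₂.1 k l := by
    rw [hK₃, act_trSL, r2, r3, smul_dotProduct, bil_single, smul_eq_mul]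
  obtain ⟨A₄, c01, c0, c1', hkeep⟩ := exists_shear K₃ b01
  refine ⟨A₄ * trSL g' * A₂ * trSL g, Or.inr ?_⟩
  simp only [Matrix.SpecialLinearGroup.coe_mul, act_mul]
  rw [← hK₁, ← hK₂, ← hK₃]
  exact ⟨c01, c0, c1', by rw [hkeep 2 3 b02 b12 b03 b13, b23]; exact mul_ne_zero hs hkl⟩

/-! ### The orbit of a matrix of rank at least four -/

variable [Fintype F]

/-- A large set of congruent copies. -/
theorem big_orbit (K : AltM (m + 4) F) (hK : Big K) {a : F} (ha : a ≠ 0) (ha2 : a * a ≠ 1) :
    2 * (Fintype.card F ^ (m + 3) - 1) * Fintype.card F ^ (m + 2) ≤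
      {K' | ∃ A : Matrix (Fin (m + 4)) (Fin (m + 4)) F, A.det ≠ 0 ∧ IsSquare A.det ∧ act A K = K'}.ncard := by
  classical
  obtain ⟨k01, k0, k1, k23⟩ := hK
  obtain ⟨t20, t21, t30, t31, t23, -⟩ := two_three (m := m)
  have k10 : K.1 1 0 = -1 := by rw [alt_swap K 0 1, k01]
  -- scaling
  let D : Bool → Matrix (Fin (m + 4)) (Fin (m + 4)) F := fun s =>
    diagonal fun i => if s = true ∧ (i = 2 ∨ i = 3) then a else 1
  have hDdet : ∀ s, (D s).det ≠ 0 ∧ IsSquare (D s).det := fun s => by
    rw [det_diagonal]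
    cases s
    · simp
    · have : (∏ i : Fin (m + 4), if true = true ∧ (i = 2 ∨ i = 3) then a else 1) = a * a := by
        rw [Finset.prod_ite, Finset.prod_const, Finset.prod_const_one, mul_one,
          show Finset.univ.filter (fun i : Fin (m + 4) => true = true ∧ (i = 2 ∨ i = 3)) = {2, 3} by ext i; simp,
          Finset.card_pair t23, sq]
      rw [this]
      exact ⟨mul_ne_zero ha ha, a, rfl⟩
  have hDapp : ∀ s i j, (act (D s) K).1 i j =
      (if s = true ∧ (i = 2 ∨ i = 3) then a else 1) * K.1 i j * (if s = true ∧ (j = 2 ∨ j = 3) then a else 1) :=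
    fun s i j => by simp [D, act_val, diagonal_transpose]
  -- first row
  let W := Fin (m + 2) → F
  let ext : W → Fin (m + 4) → F := fun w => Fin.cons 0 (Fin.cons 0 w)
  have hext0 : ∀ w, (e 0 : Fin (m + 4) → F) ⬝ᵥ ext w = 0 := fun w => by simp [ext]
  let Aw : W → SLn (m + 4) F := fun w => tv (ext w) (e 0) (hext0 w)
  have hKw : ∀ s w i j, (act (Aw w).1 (act (D s) K)).1 i j = (act (D s) K).1 i j
      + ext w i * (e 1 : Fin (m + 4) → F) j - (e 1 : Fin (m + 4) → F) i * ext w j := by
    intro s w i j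
    set K' := act (D s) K
    have r0 : ∀ j, K'.1 0 j = (e 1 : Fin (m + 4) → F) j := fun j => by
      rw [hDapp]
      rcases eq_or_ne j 1 with rfl | hj
      · simp [k01, t20.symm, t30.symm, t21.symm, t31.symm]
      · simp [k0 j hj, hj]
    have c0 : ∀ i, K'.1 i 0 = -(e 1 : Fin (m + 4) → F) i := fun i => by rw [alt_swap K' 0 i, r0]
    have hrow : ∀ i, (fun b => (Aw w).1 i b) = e i + ext w i • (e 0 : Fin (m + 4) → F) := fun i => by
      funext b
      simp [Aw, tv, vecMulVec_apply, Matrix.one_apply, Pi.single_apply, eq_comm]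
    rw [act_apply, hrow, hrow]
    simp only [mulVec_add, mulVec_smul, dotProduct_add, dotProduct_smul, add_dotProduct, smul_dotProduct,
      bil_single, smul_eq_mul, r0, c0]
    rw [e_ne (show (0 : Fin (m + 4)) ≠ 1 by simp)]
    ring
  -- second stage
  let Vn := {v : Fin (m + 3) → F // v ≠ 0}
  have hg : ∀ v : Vn, ∃ g : SLn (m + 3) F, g • (e 0 : Fin (m + 3) → F) = v.1 := fun v => by
    obtain ⟨z, hz⟩ := exists_third v.1 v.1
    rw [Set.pair_eq_singleton] at hz
    obtain ⟨g, g0, -⟩ := exists_move2 (li_pair v.2 hz)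
    exact ⟨g, g0⟩
  choose g hg using hg
  have hsucc : (1 : Fin (m + 4)) = Fin.succ 0 := rfl
  have hblk : ∀ (v : Vn) s w j, (act (iota (g v)).1 (act (Aw w).1 (act (D s) K))).1 0 j
      = (Fin.cons 0 v.1 : Fin (m + 4) → F) j := by
    intro v s w j
    set K₂ := act (Aw w).1 (act (D s) K) with hK₂
    have r0 : ∀ j, K₂.1 0 j = (e 1 : Fin (m + 4) → F) j := fun j => by
      rw [hK₂, hKw, hDapp]
      rcases eq_or_ne j 1 with rfl | hj
      · simp [k01, t20.symm, t30.symm, t21.symm, t31.symm, ext]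
      · simp [k0 j hj, hj, ext]
    have hrow0 : ∀ b, (iota (g v)).1 0 b = (e 0 : Fin (m + 4) → F) b := fun b => by
      show blk 1 (g v).1 0 b = _
      refine Fin.cases ?_ (fun c => ?_) b <;> simp [blk]
    rw [act_apply, show (fun b => (iota (g v)).1 0 b) = (e 0 : Fin (m + 4) → F) from funext hrow0,
      single_one_dotProduct]
    simp only [mulVec, dotProduct, r0]
    rw [Finset.sum_eq_single 1 (fun b _ hb => by rw [e_ne hb, zero_mul]) (by simp), e_self, one_mul]
    show blk 1 (g v).1 j 1 = _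
    refine Fin.cases ?_ (fun c => ?_) j
    · rw [hsucc]; simp [blk, -Fin.succ_zero_eq_one]
    · simp only [blk, hsucc, of_apply, Fin.cons_succ]
      rw [← hg v, smul_eq, mulVec_single_one]
      rfl
  let S := {K' | ∃ A : Matrix (Fin (m + 4)) (Fin (m + 4)) F, A.det ≠ 0 ∧ IsSquare A.det ∧ act A K = K'}
  let Θ : Bool × Vn × W → S := fun p => ⟨act (iota (g p.2.1)).1 (act (Aw p.2.2).1 (act (D p.1) K)),
    ⟨(iota (g p.2.1)).1 * (Aw p.2.2).1 * D p.1, by
      rw [det_mul, det_mul, (iota (g p.2.1)).2, (Aw p.2.2).2, one_mul, one_mul]; exact (hDdet p.1).1, by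
      rw [det_mul, det_mul, (iota (g p.2.1)).2, (Aw p.2.2).2, one_mul, one_mul]; exact (hDdet p.1).2,
      by rw [act_mul, act_mul]⟩⟩
  have hΘ : Function.Injective Θ := by
    rintro ⟨s, v, w⟩ ⟨s', v', w'⟩ h
    have h' := congrArg Subtype.val h
    simp only [Θ] at h'
    have hv : v = v' := by
      refine Subtype.ext (funext fun c => ?_)
      have := congrFun (congrFun (congrArg Subtype.val h') 0) c.succ
      rwa [hblk, hblk, Fin.cons_succ, Fin.cons_succ] at this
    subst hv
    have h'' := act_injective (by rw [(iota (g v)).2]; exact isUnit_one) h'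
    have hw : w = w' := funext fun c => by
      have := congrFun (congrFun (congrArg Subtype.val h'') c.succ.succ) 1
      rw [hKw, hKw, hDapp, hDapp] at this
      have hne : (c.succ.succ : Fin (m + 4)) ≠ 1 := by rw [hsucc, ne_eq, Fin.succ_inj]; exact Fin.succ_ne_zero c
      rw [alt_swap K 1 c.succ.succ, k1 _ (Fin.succ_ne_zero _)] at this
      simpa [ext, hne] using this
    subst hw
    have hs : s = s' := by
      have := congrFun (congrFun (congrArg Subtype.val
        (act_injective (by rw [(Aw w).2]; exact isUnit_one) h'')) 2) 3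
      rw [hDapp, hDapp] at this
      cases s <;> cases s' <;> simp [t23, t23.symm] at this ⊢ <;>
        exact ha2 (mul_right_cancel₀ k23 (by first | linear_combination this | linear_combination -this))
    rw [hs]
  have h := Nat.card_le_card_of_injective Θ hΘ
  have e1 : Nat.card Vn = Fintype.card F ^ (m + 3) - 1 := by
    rw [Nat.card_eq_fintype_card, Fintype.card_subtype_compl, Fintype.card_subtype_eq, Fintype.card_fun,
      Fintype.card_fin]
  have e2 : Nat.card W = Fintype.card F ^ (m + 2) := by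
    rw [Nat.card_eq_fintype_card, Fintype.card_fun, Fintype.card_fin]
  rw [Nat.card_prod, Nat.card_prod, e1, e2, Nat.card_eq_fintype_card (α := Bool), Fintype.card_bool,
    Nat.card_coe_set_eq, ← mul_assoc] at h
  exact h

/-! ### The orbit of rank two -/

/-- The matrices of rank two. -/
def O2 (m : ℕ) (F : Type*) [Field F] : Set (AltM (m + 4) F) :=
  {K | ∃ A : SLn (m + 4) F, act A.1 (K0 m F) = K}

theorem K0_mem : K0 m F ∈ O2 m F := ⟨1, by rw [Matrix.SpecialLinearGroup.coe_one, act_one]⟩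

/-- Pairs of independent vectors. -/
def indep (m : ℕ) (F : Type*) [Field F] : Set (Fin 2 → Fin (m + 4) → F) := {p | LinearIndependent F p}

theorem wedge_mem_O2 {p : Fin 2 → Fin (m + 4) → F} (hp : p ∈ indep m F) : wedge (p 0) (p 1) ∈ O2 m F := by
  have h : LinearIndependent F ![p 0, p 1] := by
    have : ![p 0, p 1] = p := by funext i; fin_cases i <;> rfl
    rwa [this]
  obtain ⟨g, g0, g1⟩ := exists_move2 (m := m + 1) h
  exact ⟨g, by rw [K0, act_wedge, ← smul_eq, ← smul_eq, g0, g1]⟩

theorem li_e01 : LinearIndependent F ![(e 0 : Fin (m + 4) → F), e 1] := by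
  refine li_pair (by simp) fun h => ?_
  obtain ⟨c, hc⟩ := Submodule.mem_span_singleton.1 h
  simpa using congrFun hc 1

theorem li_act (g : SLn n F) {p : Fin 2 → Fin n → F} (hp : LinearIndependent F p) :
    LinearIndependent F (fun i => g • p i) := by
  have : (fun i => g • p i) = Matrix.toLin' g.1 ∘ p := funext fun i => (Matrix.toLin'_apply g.1 (p i)).symm
  rw [this]
  refine hp.map' _ (LinearMap.ker_eq_bot.2 fun x y h => sl_injective g ?_)
  simpa [smul_eq] using h

theorem fiber_K0 {p : Fin 2 → Fin (m + 4) → F} (h : wedge (p 0) (p 1) = K0 m F) :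
    p 0 0 * p 1 1 - p 1 0 * p 0 1 = 1 ∧ p 0 = p 0 0 • e 0 + p 0 1 • e 1 ∧ p 1 = p 1 0 • e 0 + p 1 1 • e 1 := by
  have key : ∀ i j, p 0 i * p 1 j - p 1 i * p 0 j = (K0 m F).1 i j := fun i j => by rw [← h, wedge_apply]
  have h01 : p 0 0 * p 1 1 - p 1 0 * p 0 1 = 1 := by rw [key]; simp [K0, wedge_apply]
  refine ⟨h01, ?_, ?_⟩ <;>
  · funext i
    rcases eq_or_ne i 0 with rfl | hi0
    · simp
    rcases eq_or_ne i 1 with rfl | hi1
    · simp
    have a := key 0 i
    have b := key 1 i
    simp [K0, wedge_apply, hi0, hi1] at a b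
    simp [hi0, hi1]
    first
      | linear_combination p 0 1 * a - p 0 0 * b - p 0 i * h01
      | linear_combination p 1 1 * a - p 1 0 * b - p 1 i * h01

/-- Each fibre of the wedge map is a copy of the special linear group of degree two. -/
theorem card_fiber {K : AltM (m + 4) F} (hK : K ∈ O2 m F) :
    Nat.card {p : indep m F // wedge (p.1 0) (p.1 1) = K} = Fintype.card F * (Fintype.card F ^ 2 - 1) := by
  classical
  obtain ⟨g, rfl⟩ := hK
  rw [← Classical.card_sl2]
  symm
  let Φ : Matrix.SpecialLinearGroup (Fin 2) F → {p : indep m F // wedge (p.1 0) (p.1 1) = act g.1 (K0 m F)} := fun M =>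
    ⟨⟨fun i => g • (M.1 i 0 • (e 0 : Fin (m + 4) → F) + M.1 i 1 • e 1), by
      refine li_act g ?_
      rw [Fintype.linearIndependent_iff]
      intro c hc
      have c0 := congrFun hc 0
      have c1 := congrFun hc 1
      simp [Fin.sum_univ_two] at c0 c1
      have hd := M.2
      rw [Matrix.det_fin_two] at hd
      intro i
      fin_cases i
      · show c 0 = 0
        linear_combination M.1 1 1 * c0 - M.1 1 0 * c1 - c 0 * hd
      · show c 1 = 0
        linear_combination M.1 0 0 * c1 - M.1 0 1 * c0 - c 1 * hd⟩, by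
      show wedge (g • _) (g • _) = _
      rw [smul_eq, smul_eq, ← act_wedge]
      congr 1
      refine Subtype.ext (Matrix.ext fun i j => ?_)
      have hd := M.2
      rw [Matrix.det_fin_two] at hd
      rw [K0, wedge_apply, wedge_apply]
      simp only [Pi.add_apply, Pi.smul_apply, smul_eq_mul]
      linear_combination ((e 0 : Fin (m + 4) → F) i * (e 1 : Fin (m + 4) → F) j
        - (e 1 : Fin (m + 4) → F) i * (e 0 : Fin (m + 4) → F) j) * hd⟩
  refine Nat.card_congr (Equiv.ofBijective Φ ⟨fun M N h => ?_, fun p => ?_⟩)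
  · refine Matrix.SpecialLinearGroup.ext _ _ fun i j => ?_
    have := congrFun (congrArg (fun q : {p : indep m F // _} => q.1.1) h) i
    have h2 := sl_injective g this
    fin_cases j
    · simpa using congrFun h2 0
    · simpa using congrFun h2 1
  · obtain ⟨⟨p, hp⟩, hpK⟩ := p
    set p' : Fin 2 → Fin (m + 4) → F := fun i => g⁻¹ • p i
    have hp' : wedge (p' 0) (p' 1) = K0 m F := by
      show wedge (g⁻¹ • p 0) (g⁻¹ • p 1) = _
      rw [smul_eq, smul_eq, ← act_wedge, hpK, ← act_mul, ← Matrix.SpecialLinearGroup.coe_mul, inv_mul_cancel,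
        Matrix.SpecialLinearGroup.coe_one, act_one]
    obtain ⟨hd, e0', e1'⟩ := fiber_K0 hp'
    refine ⟨⟨!![p' 0 0, p' 0 1; p' 1 0, p' 1 1], by rw [Matrix.det_fin_two]; simp; linear_combination hd⟩, ?_⟩
    refine Subtype.ext (Subtype.ext (funext fun i => ?_))
    fin_cases i
    · show g • _ = p 0
      have h : g • p' 0 = p 0 := by simp [p']
      rw [← h]
      congr 1
      simpa using e0'.symm
    · show g • _ = p 1
      have h : g • p' 1 = p 1 := by simp [p']
      rw [← h]
      congr 1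
      simpa using e1'.symm

theorem card_indep : Nat.card (indep m F) =
    (Fintype.card F ^ (m + 4) - 1) * (Fintype.card F ^ (m + 4) - Fintype.card F) := by
  have h := card_linearIndependent (K := F) (V := Fin (m + 4) → F) (k := 2) (by simp)
  rw [show Nat.card (indep m F) = _ from h]
  simp [Fin.prod_univ_two]

/-- Sums over the rank two orbit. -/
theorem sum_O2 [Fintype (O2 m F)] (φ : AltM (m + 4) F → ℂ) [Fintype (indep m F)] :
    ((Fintype.card F * (Fintype.card F ^ 2 - 1) : ℕ) : ℂ) * ∑ K : O2 m F, φ K.1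
      = ∑ p : indep m F, φ (wedge (p.1 0) (p.1 1)) := by
  classical
  let π : indep m F → O2 m F := fun p => ⟨_, wedge_mem_O2 p.2⟩
  rw [← Fintype.sum_fiberwise π, Finset.mul_sum]
  refine Finset.sum_congr rfl fun K _ => ?_
  rw [Finset.sum_congr rfl fun (p : {p // π p = K}) _ =>
    (congrArg φ (congrArg Subtype.val p.2) : φ (π p.1).1 = φ K.1)]
  have hc : Fintype.card {p // π p = K} = Fintype.card F * (Fintype.card F ^ 2 - 1) := by
    rw [← card_fiber K.2, ← Nat.card_eq_fintype_card]
    exact Nat.card_congr (Equiv.subtypeEquivRight fun p =>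
      ⟨fun h => congrArg Subtype.val h, fun h => Subtype.ext h⟩)
  rw [Finset.sum_const, Finset.card_univ, nsmul_eq_mul, hc]

theorem card_O2 [Fintype (O2 m F)] : (Fintype.card F * (Fintype.card F ^ 2 - 1)) * Fintype.card (O2 m F) =
    (Fintype.card F ^ (m + 4) - 1) * (Fintype.card F ^ (m + 4) - Fintype.card F) := by
  classical
  have h := sum_O2 (m := m) (F := F) fun _ => 1
  simp only [Finset.sum_const, Finset.card_univ, nsmul_eq_mul, mul_one] at h
  rw [← card_indep, Nat.card_eq_fintype_card]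
  exact_mod_cast h

/-- The defect of a primitive character on the rank two orbit. -/
theorem sum_defect [Fintype (O2 m F)] {ψ : AddChar F ℂ} (hψ : ψ ≠ 1) :
    ∑ K : O2 m F, (1 - ψ (K.1.1 0 1)) = (Fintype.card F : ℂ) ^ (2 * m + 5) := by
  classical
  set q := Fintype.card F with hq
  have hq2 : 2 ≤ q := Fintype.one_lt_card
  have hN : ((q * (q ^ 2 - 1) : ℕ) : ℂ) ≠ 0 := Nat.cast_ne_zero.2 (Nat.mul_ne_zero (by omega) (by
    have : 2 ^ 2 ≤ q ^ 2 := Nat.pow_le_pow_left hq2 2
    omega))
  refine mul_left_cancel₀ hN ?_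
  rw [sum_O2 fun K => 1 - ψ (K.1 0 1)]
  have hall : ∑ p : indep m F, (1 - ψ ((wedge (p.1 0) (p.1 1)).1 0 1))
      = ∑ p : Fin 2 → Fin (m + 4) → F, (1 - ψ ((wedge (p 0) (p 1)).1 0 1)) := by
    rw [← Finset.sum_subset (Finset.subset_univ (Finset.univ.filter fun p => p ∈ indep m F))]
    · exact (Finset.sum_subtype _ (by simp) fun p : Fin 2 → Fin (m + 4) → F =>
        (1 : ℂ) - ψ ((wedge (p 0) (p 1)).1 0 1)).symm
    · intro p _ hp
      rw [sub_eq_zero, eq_comm]
      convert ψ.map_zero_eq_one using 2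
      simp only [Finset.mem_filter, Finset.mem_univ, true_and] at hp
      rw [wedge_apply]
      by_cases h0 : p 0 = 0
      · simp [h0]
      · have : p 1 ∈ Submodule.span F {p 0} := by
          by_contra hn
          refine hp ?_
          have hpp : ![p 0, p 1] = p := by funext i; fin_cases i <;> rfl
          show LinearIndependent F p
          rw [← hpp]
          exact li_pair h0 hn
        obtain ⟨c, hc⟩ := Submodule.mem_span_singleton.1 this
        simp [← hc]
        ring
  rw [hall, Finset.sum_sub_distrib, Finset.sum_const, Finset.card_univ, nsmul_eq_mul, mul_one]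
  have hsplit : ∑ p : Fin 2 → Fin (m + 4) → F, ψ ((wedge (p 0) (p 1)).1 0 1) = (q : ℂ) ^ (2 * m + 6) := by
    rw [← (finTwoArrowEquiv (Fin (m + 4) → F)).symm.sum_comp, Fintype.sum_prod_type]
    have inner : ∀ u : Fin (m + 4) → F, ∑ v : Fin (m + 4) → F, ψ ((wedge u v).1 0 1)
        = if u 0 = 0 ∧ u 1 = 0 then (q : ℂ) ^ (m + 4) else 0 := by
      intro u
      let χ : AddChar (Fin (m + 4) → F) ℂ :=
        { toFun := fun v => ψ ((wedge u v).1 0 1)
          map_zero_eq_one' := by simp [wedge_apply]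
          map_add_eq_mul' := fun v w => by
            rw [← AddChar.map_add_eq_mul]
            congr 1
            simp [wedge_apply]
            ring }
      have := AddChar.sum_eq_ite χ
      rw [Fintype.card_fun, Fintype.card_fin, ← hq] at this
      refine (show ∑ v, χ v = _ from this).trans ?_
      by_cases h : u 0 = 0 ∧ u 1 = 0
      · rw [if_pos h, if_pos, Nat.cast_pow]
        exact DFunLike.ext _ _ fun v => show ψ _ = 1 by simp [wedge_apply, h.1, h.2]
      · rw [if_neg h, if_neg]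
        intro hχ
        refine hψ (DFunLike.ext _ _ fun t => ?_)
        rw [AddChar.one_apply]
        by_cases h0 : u 0 = 0
        · have h1 : u 1 ≠ 0 := fun h1 => h ⟨h0, h1⟩
          have := DFunLike.congr_fun hχ ((-t / u 1) • e 0)
          simpa [χ, wedge_apply, h0, div_mul_cancel₀ _ h1] using this
        · have := DFunLike.congr_fun hχ ((t / u 0) • e 1)
          simpa [χ, wedge_apply, mul_div_cancel₀ _ h0] using this
    have hcount : (Finset.univ.filter fun u : Fin (m + 4) → F => u 0 = 0 ∧ u 1 = 0).card = q ^ (m + 2) := by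
      rw [← Fintype.card_subtype, show q ^ (m + 2) = Fintype.card (Fin (m + 2) → F) by simp [hq]]
      exact Fintype.card_congr {
        toFun := fun u i => u.1 i.succ.succ
        invFun := fun w => ⟨Fin.cons 0 (Fin.cons 0 w), by simp⟩
        left_inv := fun ⟨u, h0, h1⟩ => Subtype.ext (funext fun i => by
          refine Fin.cases h0.symm (fun c => ?_) i
          exact Fin.cases h1.symm (fun d => rfl) c)
        right_inv := fun w => rfl }
    simp only [finTwoArrowEquiv_symm_apply, Matrix.cons_val_zero, Matrix.cons_val_one]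
    rw [Finset.sum_congr rfl fun u _ => inner u, Finset.sum_ite, Finset.sum_const_zero, add_zero, Finset.sum_const,
      hcount, nsmul_eq_mul, Nat.cast_pow, ← pow_add]
    congr 1
    omega
  rw [hsplit]
  simp only [Fintype.card_fun, Fintype.card_fin, ← hq, ← pow_mul]
  push_cast [Nat.cast_sub (Nat.one_le_pow 2 q (by omega))]
  rw [show (m + 4) * 2 = 2 * m + 8 by omega, show 2 * m + 8 = 2 * m + 5 + 3 by omega,
    show 2 * m + 6 = 2 * m + 5 + 1 by omega, pow_add, pow_add]
  ring

end Cfsg.Agent.OrthDeg
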