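import Cfsg.Agent.OrthDeg.Radical
import Cfsg.Agent.Classical.OrthIndex
import Cfsg.Agent.Classical.QuadStd
import Cfsg.Agent.Char.Integral

/-!
The smallest degree of a nontrivial irreducible representation of a commutator subgroup of an isometry group of plus
type.
-/

set_option autoImplicit false
set_option linter.unusedSectionVars false

namespace Cfsg.Agent.OrthDeg

open Matrix Module SLDeg QuadraticMap Classical.Quad
open scoped commutatorElement

variable {F : Type*} [Field F] {m : ℕ}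

instance finite_oG_plus [Finite F] {n : ℕ} : Finite (oG (plusQ F n)) :=
  Finite.of_injective (fun g => fun x => g.1 x) fun g h e => ext_oG (congrFun e)

/-! ### The centraliser of a long root element -/

/-- The last coordinate pairs. -/
def tl (y : Fin (m + 4) ⊕ Fin (m + 4) → F) : Fin (m + 2) ⊕ Fin (m + 2) → F :=
  Sum.elim (fun j => y (.inl j.succ.succ)) (fun j => y (.inr j.succ.succ))

/-- Replacing the last coordinate pairs. -/
def put (y : Fin (m + 4) ⊕ Fin (m + 4) → F) (z : Fin (m + 2) ⊕ Fin (m + 2) → F) : Fin (m + 4) ⊕ Fin (m + 4) → F :=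
  Sum.elim (Fin.cons (y (.inl 0)) (Fin.cons (y (.inl 1)) fun j => z (.inl j)))
    (Fin.cons (y (.inr 0)) (Fin.cons (y (.inr 1)) fun j => z (.inr j)))

theorem tl_put (y : Fin (m + 4) ⊕ Fin (m + 4) → F) (z) : tl (put y z) = z := by
  funext s; rcases s with j | j <;> rfl

theorem put_put (y : Fin (m + 4) ⊕ Fin (m + 4) → F) (z z') : put (put y z) z' = put y z' := rfl

theorem put_tl (y : Fin (m + 4) ⊕ Fin (m + 4) → F) : put y (tl y) = y := by
  funext s
  rcases s with j | j <;> refine Fin.cases rfl (fun c => Fin.cases rfl (fun d => rfl) c) j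

/-- The embedding of a smaller isometry group. -/
theorem exists_inner (g : oG (plusQ F (m + 2))) :
    ∃ h : oG (plusQ F (m + 4)), ∀ y, h.1 y = put y (g.1 (tl y)) := by
  refine ⟨⟨{ toFun := fun y => put y (g.1 (tl y))
             map_add' := fun y y' => ?_
             map_smul' := fun c y => ?_
             invFun := fun y => put y (g.1.symm (tl y))
             left_inv := fun y => by simp only [tl_put, put_put, LinearEquiv.symm_apply_apply, put_tl]
             right_inv := fun y => by simp only [tl_put, put_put, LinearEquiv.apply_symm_apply, put_tl] }, fun y => ?_⟩,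
    fun y => rfl⟩
  · have e : tl (y + y') = tl y + tl y' := by funext s; rcases s with j | j <;> rfl
    funext s
    rw [e, map_add]
    rcases s with j | j <;> refine Fin.cases rfl (fun c => Fin.cases rfl (fun d => rfl) c) j
  · have e : tl (c • y) = c • tl y := by funext s; rcases s with j | j <;> rfl
    funext s
    show put (c • y) (g.1 (tl (c • y))) s = c • put y (g.1 (tl y)) s
    rw [e, map_smul]
    rcases s with j | j <;> refine Fin.cases rfl (fun c' => Fin.cases rfl (fun d => rfl) c') j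
  · show plusQ F (m + 4) (put y (g.1 (tl y))) = plusQ F (m + 4) y
    have h := g.2 (tl y)
    rw [plusQ_apply, plusQ_apply] at h
    rw [plusQ_apply, plusQ_apply, Fin.sum_univ_succ, Fin.sum_univ_succ, Fin.sum_univ_succ (f := fun i => y _ * y _),
      Fin.sum_univ_succ (f := fun i => y _ * y _)]
    exact congrArg₂ (· + ·) rfl (congrArg₂ (· + ·) rfl h)

/-- The embedding of a smaller isometry group. -/
noncomputable def inner (m : ℕ) (F : Type*) [Field F] : oG (plusQ F (m + 2)) →* oG (plusQ F (m + 4)) :=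
  MonoidHom.mk' (fun g => (exists_inner g).choose) fun g g' => ext_oG fun y => by
    rw [oG_mul_apply, (exists_inner (g * g')).choose_spec, (exists_inner g').choose_spec,
      (exists_inner g).choose_spec, tl_put, put_put, oG_mul_apply]

theorem inner_apply (g : oG (plusQ F (m + 2))) (y : Fin (m + 4) ⊕ Fin (m + 4) → F) :
    (inner m F g).1 y = put y (g.1 (tl y)) := (exists_inner g).choose_spec y

theorem inner_xO (g : oG (plusQ F (m + 2))) : inner m F g * xO (K0 m F) = xO (K0 m F) * inner m F g :=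
  ext_oG fun y => by
    have hx : ∀ y' : Fin (m + 4) ⊕ Fin (m + 4) → F, (xO (K0 m F)).1 y' =
        put (Sum.elim (fun i => y' (.inl i)) fun i =>
          y' (.inr i) + ((e 0 : Fin (m + 4) → F) i * y' (.inl 1) - (e 1 : Fin (m + 4) → F) i * y' (.inl 0))) (tl y') := by
      intro y'
      rw [xO_apply, fromBlocks_mulVec]
      have hv : ∀ i, ((K0 m F).1 *ᵥ (y' ∘ Sum.inl)) i =
          (e 0 : Fin (m + 4) → F) i * y' (.inl 1) - (e 1 : Fin (m + 4) → F) i * y' (.inl 0) := fun i => by
        simp [K0, wedge, Matrix.sub_mulVec, Matrix.vecMulVec_mulVec, mul_comm]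
      funext s
      rcases s with j | j
      · simp only [Sum.elim_inl, Matrix.one_mulVec, Matrix.zero_mulVec, add_zero, Function.comp_apply]
        refine Fin.cases rfl (fun c => Fin.cases rfl (fun d => rfl) c) j
      · simp only [Sum.elim_inr, Matrix.one_mulVec, Pi.add_apply, hv, Function.comp_apply]
        refine Fin.cases ?_ (fun c => Fin.cases ?_ (fun d => ?_) c) j
        · exact add_comm _ _
        · exact add_comm _ _
        · have h0 : (d.succ.succ : Fin (m + 4)) ≠ 0 := Fin.succ_ne_zero _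
          have h1 : (d.succ.succ : Fin (m + 4)) ≠ 1 := by
            rw [show (1 : Fin (m + 4)) = Fin.succ 0 from rfl, ne_eq, Fin.succ_inj]; exact Fin.succ_ne_zero d
          rw [e_ne h0, e_ne h1, zero_mul, zero_mul, sub_zero, zero_add]
          rfl
    rw [oG_mul_apply, oG_mul_apply, hx, inner_apply, hx, inner_apply]
    simp only [tl_put, put_put]
    funext s
    rcases s with j | j <;> refine Fin.cases rfl (fun c => Fin.cases rfl (fun d => rfl) c) j

variable [Fintype F]

/-- The block matrix of a two by two matrix and an identity. -/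
def emb (M : Matrix (Fin 2) (Fin 2) F) : Matrix (Fin (m + 4)) (Fin (m + 4)) F :=
  Matrix.of (Fin.cons (Fin.cons (M 0 0) (Fin.cons (M 0 1) 0)) (Fin.cons (Fin.cons (M 1 0) (Fin.cons (M 1 1) 0))
    fun i => Fin.cons 0 (Fin.cons 0 ((1 : Matrix (Fin (m + 2)) (Fin (m + 2)) F) i))))

theorem emb_mulVec (M : Matrix (Fin 2) (Fin 2) F) (u : Fin (m + 4) → F) :
    emb M *ᵥ u = Fin.cons (M 0 0 * u 0 + M 0 1 * u 1) (Fin.cons (M 1 0 * u 0 + M 1 1 * u 1)
      fun j => u j.succ.succ) := by
  funext i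
  refine Fin.cases ?_ (fun c => Fin.cases ?_ (fun d => ?_) c) i <;>
    simp [emb, Matrix.mulVec, dotProduct, Fin.sum_univ_succ, Matrix.one_apply]

theorem emb_one : (emb 1 : Matrix (Fin (m + 4)) (Fin (m + 4)) F) = 1 := Matrix.ext_of_mulVec_single fun i => by
  rw [emb_mulVec, Matrix.one_mulVec]
  funext j
  refine Fin.cases ?_ (fun c => Fin.cases ?_ (fun d => ?_) c) j <;> simp

theorem emb_mul (M N : Matrix (Fin 2) (Fin 2) F) :
    (emb (M * N) : Matrix (Fin (m + 4)) (Fin (m + 4)) F) = emb M * emb N := Matrix.ext_of_mulVec_single fun i => by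
  rw [← mulVec_mulVec, emb_mulVec, emb_mulVec, emb_mulVec]
  funext j
  refine Fin.cases ?_ (fun c => Fin.cases ?_ (fun d => ?_) c) j <;>
    simp [Matrix.mul_apply, Fin.sum_univ_two] <;> ring

theorem emb_transpose (M : Matrix (Fin 2) (Fin 2) F) :
    (emb M : Matrix (Fin (m + 4)) (Fin (m + 4)) F)ᵀ = emb Mᵀ := by
  ext i j
  refine Fin.cases ?_ (fun c => Fin.cases ?_ (fun d => ?_) c) i <;>
    refine Fin.cases ?_ (fun c => Fin.cases ?_ (fun d => ?_) c) j <;> simp [emb, Matrix.one_apply, eq_comm]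

theorem emb_det (hq : 3 < Fintype.card F) (M : Matrix.SpecialLinearGroup (Fin 2) F) :
    (emb M.1 : Matrix (Fin (m + 4)) (Fin (m + 4)) F).det = 1 := by
  classical
  let δ : Matrix.SpecialLinearGroup (Fin 2) F →* F :=
    { toFun := fun M => (emb M.1 : Matrix (Fin (m + 4)) (Fin (m + 4)) F).det
      map_one' := by rw [Matrix.SpecialLinearGroup.coe_one, emb_one, det_one]
      map_mul' := fun M N => by rw [Matrix.SpecialLinearGroup.coe_mul, emb_mul, det_mul] }
  obtain ⟨a, ha, ha2⟩ := exists_scalar hq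
  have hM : M ∈ commutator (Matrix.SpecialLinearGroup (Fin 2) F) := by
    rw [Classical.commutator_sl_eq_top (Or.inr ⟨a, ha, by rwa [_root_.sq]⟩)]; trivial
  exact congrArg Units.val (MonoidHom.mem_ker.1 (Abelianization.commutator_subset_ker δ.toHomUnits hM))

theorem perfect_of_le {G : Type*} [Group G] (H : Subgroup G) (h : H ≤ ⁅H, H⁆) : commutator H = ⊤ := by
  refine Subgroup.map_injective H.subtype_injective (le_antisymm (Subgroup.map_mono le_top) ?_)
  rw [← MonoidHom.range_eq_map, Subgroup.range_subtype, commutator_def, Subgroup.map_commutator,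
    ← MonoidHom.range_eq_map, Subgroup.range_subtype]
  exact h

theorem trivial_of_commuting {G M : Type*} [Group G] [Monoid M] (ρ : G →* M) (hperf : commutator G = ⊤)
    (h : ∀ a b, ρ a * ρ b = ρ b * ρ a) (g : G) : ρ g = 1 := by
  have hle : commutator G ≤ ρ.ker := by
    rw [commutator_def, Subgroup.commutator_le]
    intro a _ b _
    rw [MonoidHom.mem_ker, commutatorElement_def, map_mul, map_mul, map_mul, h a b, mul_assoc (ρ b),
      ← map_mul ρ a a⁻¹, mul_inv_cancel, map_one, mul_one, ← map_mul, mul_inv_cancel, map_one]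
  exact MonoidHom.mem_ker.1 (hle (hperf ▸ Subgroup.mem_top g))

/-- The embedding of the special linear group of degree two. -/
noncomputable def embSL (hq : 3 < Fintype.card F) : Matrix.SpecialLinearGroup (Fin 2) F →* SLn (m + 4) F :=
  MonoidHom.mk' (fun M => ⟨emb M.1, emb_det hq M⟩) fun M N => Subtype.ext (emb_mul M.1 N.1)

theorem index_dvd (hq : 3 < Fintype.card F) :
    ∃ a, (Subgroup.centralizer ({(plusFrame hq).x (K0 m F)} : Set (Om m F))).index * (Fintype.card F ^ 2 - 1) ∣
      Fintype.card F ^ a * ((Fintype.card F ^ (m + 4) - 1) * (Fintype.card F ^ (2 * m + 6) - 1) *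
        (Fintype.card F ^ (m + 2) + 1)) := by
  classical
  set g₀ := (plusFrame hq).x (K0 m F)
  set C := Subgroup.centralizer ({g₀} : Set (Om m F))
  let G2 := ↥(commutator (oG (plusQ F (m + 2))))
  let iG : G2 →* Om m F :=
    MonoidHom.mk' (fun g => ⟨inner m F g.1, by
      have h := Subgroup.mem_map_of_mem (inner m F) (show g.1 ∈ ⁅(⊤ : Subgroup (oG (plusQ F (m + 2)))), ⊤⁆ from g.2)
      rw [Subgroup.map_commutator] at h
      exact Subgroup.commutator_mono le_top le_top h⟩) fun g g' => Subtype.ext (map_mul (inner m F) g.1 g'.1)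
  let iS : Matrix.SpecialLinearGroup (Fin 2) F →* Om m F := LO.comp (embSL hq)
  have hS : ∀ (M : Matrix.SpecialLinearGroup (Fin 2) F) y, (iS M).1.1 y =
      Sum.elim (Fin.cons (M.1 0 0 * y (.inl 0) + M.1 0 1 * y (.inl 1))
          (Fin.cons (M.1 1 0 * y (.inl 0) + M.1 1 1 * y (.inl 1)) fun j => y (.inl j.succ.succ)))
        (Fin.cons (M⁻¹.1 0 0 * y (.inr 0) + M⁻¹.1 1 0 * y (.inr 1))
          (Fin.cons (M⁻¹.1 0 1 * y (.inr 0) + M⁻¹.1 1 1 * y (.inr 1)) fun j => y (.inr j.succ.succ))) := by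
    intro M y
    show (LO (embSL hq M)).1.1 y = _
    have hinv : (embSL (m := m) hq M).1⁻¹ = emb M⁻¹.1 := Matrix.inv_eq_right_inv (by
      show emb M.1 * emb M⁻¹.1 = 1
      rw [← emb_mul, ← Matrix.SpecialLinearGroup.coe_mul, mul_inv_cancel, Matrix.SpecialLinearGroup.coe_one, emb_one])
    rw [LO_apply, hinv, fromBlocks_mulVec, emb_transpose]
    show Sum.elim (emb M.1 *ᵥ _ + _) _ = _
    rw [emb_mulVec, Matrix.zero_mulVec, Matrix.zero_mulVec, zero_add, add_zero, emb_mulVec]
    rfl
  have hcomm : ∀ M g, Commute (iS M) (iG g) := fun M g => Subtype.ext (ext_oG fun y => by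
    show (iS M).1.1 ((inner m F g.1).1 y) = (inner m F g.1).1 ((iS M).1.1 y)
    rw [hS, inner_apply, inner_apply, hS]
    rfl)
  let Φ : Matrix.SpecialLinearGroup (Fin 2) F × G2 →* Om m F := MonoidHom.noncommCoprod iS iG hcomm
  have hΦC : ∀ p, Φ p ∈ C := by
    rintro ⟨M, g⟩
    refine mul_mem ?_ ?_
    · rw [Subgroup.mem_centralizer_singleton_iff]
      have h := (plusFrame hq).hL (embSL hq M) (K0 m F)
      have e : act (embSL (m := m) hq M).1ᵀ (K0 m F) = K0 m F := by
        show act (emb M.1)ᵀ (wedge (e 0) (e 1)) = _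
        rw [act_wedge, emb_transpose]
        have hr : ∀ (a b : F), Fin.cons a (Fin.cons b (fun _ : Fin (m + 2) => (0 : F))) =
            a • (e 0 : Fin (m + 4) → F) + b • e 1 := fun a b => by
          funext i
          refine Fin.cases ?_ (fun c => Fin.cases ?_ (fun d => ?_) c) i
          · simp
          · simp
          · have h0 : (d.succ.succ : Fin (m + 4)) ≠ 0 := Fin.succ_ne_zero _
            have h1 : (d.succ.succ : Fin (m + 4)) ≠ 1 := by
              rw [show (1 : Fin (m + 4)) = Fin.succ 0 from rfl, ne_eq, Fin.succ_inj]; exact Fin.succ_ne_zero d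
            simp [e_ne h0, e_ne h1]
        have c0 : emb M.1ᵀ *ᵥ (e 0 : Fin (m + 4) → F) = M.1 0 0 • e 0 + M.1 0 1 • e 1 := by
          rw [← hr, emb_mulVec]
          funext i
          refine Fin.cases ?_ (fun c => Fin.cases ?_ (fun d => ?_) c) i <;> simp
        have c1 : emb M.1ᵀ *ᵥ (e 1 : Fin (m + 4) → F) = M.1 1 0 • e 0 + M.1 1 1 • e 1 := by
          rw [← hr, emb_mulVec]
          funext i
          refine Fin.cases ?_ (fun c => Fin.cases ?_ (fun d => ?_) c) i <;>
            simp [show ∀ d : Fin (m + 2), (d.succ.succ : Fin (m + 4)) ≠ 1 from fun d => by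
              rw [show (1 : Fin (m + 4)) = Fin.succ 0 from rfl, ne_eq, Fin.succ_inj]; exact Fin.succ_ne_zero d]
        rw [c0, c1]
        refine Subtype.ext (Matrix.ext fun i j => ?_)
        have hd := M.2
        rw [det_fin_two] at hd
        rw [K0, wedge_apply, wedge_apply]
        simp only [Pi.add_apply, Pi.smul_apply, smul_eq_mul]
        linear_combination ((e 0 : Fin (m + 4) → F) i * (e 1 : Fin (m + 4) → F) j
          - (e 1 : Fin (m + 4) → F) i * (e 0 : Fin (m + 4) → F) j) * hd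
      rw [e] at h
      exact h
    · rw [Subgroup.mem_centralizer_singleton_iff]
      exact Subtype.ext (inner_xO g.1)
  have hΦinj : Function.Injective (Φ.codRestrict C hΦC) := by
    refine (injective_iff_map_eq_one _).2 ?_
    rintro ⟨M, g⟩ h
    have h1 : iS M * iG g = 1 := congrArg Subtype.val h
    have h2 : ∀ y, (iS M).1.1 ((inner m F g.1).1 y) = y := fun y => by
      have := congrArg (fun z : Om m F => z.1.1 y) h1
      exact this
    have hM : M = 1 := by
      refine Subtype.ext (Matrix.ext fun i j => ?_)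
      let y : Fin 2 → Fin (m + 4) ⊕ Fin (m + 4) → F := fun j => Pi.single (.inl (if j = 0 then 0 else 1)) 1
      have e1 := fun j => congrFun (h2 (y j)) (.inl (if i = 0 then 0 else 1))
      simp only [hS, inner_apply] at e1
      have e2 := e1 j
      fin_cases i <;> fin_cases j <;> simpa [y, put] using e2
    have hg : g = 1 := by
      rw [hM, map_one, one_mul] at h1
      refine Subtype.ext (ext_oG fun z => ?_)
      have := congrArg (fun q : Om m F => tl (q.1.1 (put 0 z))) h1
      change tl ((inner m F g.1).1 (put 0 z)) = tl (put 0 z) at this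
      rwa [inner_apply, tl_put, tl_put] at this
    rw [hM, hg]; rfl
  have hdvd : Nat.card (Matrix.SpecialLinearGroup (Fin 2) F × G2) ∣ Nat.card C :=
    Subgroup.card_dvd_of_injective _ hΦinj
  rw [Nat.card_prod, Classical.card_sl2] at hdvd
  -- the orders
  obtain ⟨ix, hix⟩ : ∃ ix, ix = C.index := ⟨_, rfl⟩
  have hC : ix * Nat.card C = Nat.card (Om m F) := hix ▸ C.index_mul_card
  obtain ⟨ε, hε4, hε2⟩ : ∃ ε, (commutator (oG (plusQ F (m + 4)))).index = ε ∧
      (commutator (oG (plusQ F (m + 2)))).index = ε := by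
    by_cases h2 : (2 : F) = 0
    · haveI : CharP F 2 := CharTwo.of_one_ne_zero_of_two_eq_zero one_ne_zero h2
      exact ⟨2, (commutator_eq_ker_dickson nondeg_plusQ hexP (by rw [finrank_plus]; omega)).2,
        (commutator_eq_ker_dickson nondeg_plusQ (Or.inl (by rw [Nat.card_eq_fintype_card]; omega))
          (by rw [finrank_plus]; omega)).2⟩
    · exact ⟨4, index_commutator_odd nondeg_plusQ h2 (by rw [finrank_plus]; omega),
        index_commutator_odd nondeg_plusQ h2 (by rw [finrank_plus]; omega)⟩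
  have h4 := (commutator (oG (plusQ F (m + 4)))).index_mul_card
  have h2 := (commutator (oG (plusQ F (m + 2)))).index_mul_card
  rw [hε4] at h4
  rw [hε2] at h2
  have hbig : ix * (Fintype.card F * (Fintype.card F ^ 2 - 1)) * Nat.card (oG (plusQ F (m + 2))) ∣
      Nat.card (oG (plusQ F (m + 4))) := by
    rw [← h4, ← h2, ← hC]
    have := mul_dvd_mul_left (ε * ix) hdvd
    exact (dvd_of_eq (by ring)).trans (this.trans (dvd_of_eq (by ring)))
  have hcard : ∀ k, Nat.card (oG (plusQ F (k + 1))) =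
      2 * Fintype.card F ^ ((k + 1) * k) * (Fintype.card F ^ (k + 1) - 1) *
        ∏ i ∈ Finset.range k, (Fintype.card F ^ (2 * (i + 1)) - 1) := fun k => by
    rw [← card_oG_plus rfl k]
    exact Nat.card_congr (oCongr (plusCoord (k + 1)) fun x => rfl).toEquiv
  rw [hcard (m + 1), hcard (m + 3), Finset.prod_range_succ (n := m + 2), Finset.prod_range_succ (n := m + 1)] at hbig
  set q := Fintype.card F with hqdef
  set P := ∏ i ∈ Finset.range (m + 1), (q ^ (2 * (i + 1)) - 1)
  have hfac : q ^ (2 * (m + 1 + 1)) - 1 = (q ^ (m + 1 + 1) - 1) * (q ^ (m + 2) + 1) := by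
    rw [mul_comm (q ^ (m + 1 + 1) - 1), show 2 * (m + 1 + 1) = (m + 2) * 2 by ring, pow_mul,
      show m + 1 + 1 = m + 2 by rfl, ← Nat.sq_sub_sq, one_pow]
  rw [hfac, show 2 * (m + 2 + 1) = 2 * m + 6 by ring, show m + 3 + 1 = m + 4 by rfl] at hbig
  have hP : 0 < P := Finset.prod_pos fun i _ => by
    have : q ^ 1 ≤ q ^ (2 * (i + 1)) := Nat.pow_le_pow_right (by omega) (by omega)
    rw [pow_one] at this
    omega
  have hX : 0 < q ^ (m + 1 + 1) - 1 := by
    have : q ^ 1 ≤ q ^ (m + 1 + 1) := Nat.pow_le_pow_right (by omega) (by omega)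
    rw [pow_one] at this
    omega
  refine ⟨(m + 4) * (m + 3), ?_⟩
  rw [← hix]
  have hkey : ix * (q ^ 2 - 1) * (q * q ^ ((m + 1 + 1) * (m + 1))) * (2 * (q ^ (m + 1 + 1) - 1) * P) ∣
      q ^ ((m + 4) * (m + 3)) * ((q ^ (m + 4) - 1) * (q ^ (2 * m + 6) - 1) * (q ^ (m + 2) + 1)) *
        (2 * (q ^ (m + 1 + 1) - 1) * P) := by
    convert hbig using 1 <;> ring
  exact (Dvd.intro _ rfl).trans (Nat.dvd_of_mul_dvd_mul_right (Nat.mul_pos (Nat.mul_pos two_pos hX) hP) hkey)

/-! ### The bound -/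

theorem no_small (q m k ix : ℕ) (a : ℕ) (hq : 4 ≤ q) (hk : (k + 1) * (q ^ 2 - 1) = (q ^ (m + 4) - 1) * (q ^ (m + 3) + q))
    (hix : ix * (q ^ 2 - 1) ∣ q ^ a * ((q ^ (m + 4) - 1) * (q ^ (2 * m + 6) - 1) * (q ^ (m + 2) + 1)))
    (hdvd : k ∣ ix * q ^ (2 * m + 5)) : False := by
  have h0 : k * (q ^ 2 - 1) ∣
      q ^ (a + (2 * m + 5)) * ((q ^ (m + 4) - 1) * (q ^ (2 * m + 6) - 1) * (q ^ (m + 2) + 1)) := by
    have h1 := mul_dvd_mul_right hdvd (q ^ 2 - 1)
    have h2 := mul_dvd_mul_left (q ^ (2 * m + 5)) hix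
    rw [pow_add]
    exact (h1.trans (dvd_of_eq (by ring))).trans (h2.trans (dvd_of_eq (by ring)))
  have p : ∀ j, 1 ≤ q ^ j := fun j => Nat.one_le_pow _ _ (by omega)
  rw [← Int.natCast_dvd_natCast] at h0
  push_cast [p 2, p (m + 4), p (2 * m + 6)] at h0
  have hk' := congrArg (Nat.cast : ℕ → ℤ) hk
  push_cast [p 2, p (m + 4)] at hk'
  obtain ⟨x, hx⟩ : ∃ x : ℤ, x = (q : ℤ) ^ (m + 2) := ⟨_, rfl⟩
  set L : ℤ := (q : ℤ) ^ 2 * x + q ^ 2 + q - 1 with hL
  have e4 : (q : ℤ) ^ (m + 4) = q ^ 2 * x := by rw [hx]; ring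
  have e3 : (q : ℤ) ^ (m + 3) = q * x := by rw [hx]; ring
  have e6 : (q : ℤ) ^ (2 * m + 6) = (q * x) ^ 2 := by rw [hx]; ring
  rw [e4, e3] at hk'
  rw [e4, e6, ← hx, show ((k : ℤ) * (q ^ 2 - 1)) = (q * x - 1) * L by rw [hL]; linear_combination hk'] at h0
  have hne : (q : ℤ) * x - 1 ≠ 0 := by
    have : (q : ℤ) * 1 ≤ q * x := mul_le_mul_of_nonneg_left (hx ▸ one_le_pow₀ (by exact_mod_cast (by omega : 1 ≤ q))) (by positivity)
    omega
  have h1 : L ∣ (q : ℤ) ^ (a + (2 * m + 5)) * (((q : ℤ) ^ 2 * x - 1) * (q * x + 1) * (x + 1)) := by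
    refine (mul_dvd_mul_iff_left hne).1 (h0.trans (dvd_of_eq ?_))
    ring
  have hcop : IsCoprime L (q : ℤ) := ⟨-1, q * x + q + 1, by rw [hL]; ring⟩
  have h2 : L ∣ ((q : ℤ) ^ 2 * x - 1) * (q * x + 1) * (x + 1) := hcop.pow_right.dvd_of_dvd_mul_left h1
  have h3 : L ∣ (q : ℤ) * ((q : ℤ) ^ 2 - 1) ^ 2 := by
    have e : (q : ℤ) * ((q : ℤ) ^ 2 - 1) ^ 2 = L * (((q : ℤ) ^ 2 * x) ^ 2 + (q ^ 3 - q - q ^ 2)) -
        q ^ 3 * (((q : ℤ) ^ 2 * x - 1) * (q * x + 1) * (x + 1)) := by rw [hL]; ring
    rw [e]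
    exact dvd_sub (Dvd.intro _ rfl) (h2.mul_left _)
  have h4 : L ∣ ((q : ℤ) ^ 2 - 1) ^ 2 := hcop.dvd_of_dvd_mul_left h3
  have hqq : (16 : ℤ) ≤ (q : ℤ) ^ 2 := by
    have : (4 : ℤ) ≤ q := by exact_mod_cast hq
    nlinarith
  have h5 := Int.le_of_dvd (by nlinarith) h4
  have h6 : (q : ℤ) ^ 2 ≤ x := hx ▸ pow_le_pow_right₀ (by exact_mod_cast (by omega : 1 ≤ q)) (by omega)
  have h7 := mul_le_mul_of_nonneg_left h6 (show (0 : ℤ) ≤ (q : ℤ) ^ 2 by positivity)
  have h8 : (0 : ℤ) ≤ q := Int.natCast_nonneg q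
  nlinarith

/-- The degree bound. -/
theorem min_degree (hq : 3 < Fintype.card F) (k : ℕ) (ρ : Representation ℂ (Om m F) (Fin k → ℂ))
    (hirr : ρ.IsIrreducible) (hk : 2 ≤ k) :
    (Fintype.card F ^ (m + 4) - 1) * (Fintype.card F ^ (m + 3) + Fintype.card F) / (Fintype.card F ^ 2 - 1) ≤ k := by
  classical
  set q := Fintype.card F with hqdef
  refine Nat.div_le_of_le_mul ?_
  rw [mul_comm _ k]
  by_contra hlt
  push Not at hlt
  have hn5 : 5 ≤ finrank F (Fin (m + 4) ⊕ Fin (m + 4) → F) := by rw [finrank_plus]; omega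
  have heo := eo_eq_commutator (Q := plusQ F (m + 4)) nondeg_plusQ (by omega) hexP
  have hsimple : IsSimpleGroup (Om m F ⧸ Subgroup.center (Om m F)) := by
    have s := isSimpleGroup_eo_quot (Q := plusQ F (m + 4)) nondeg_plusQ hn5
    rw [heo] at s
    exact s
  have hperf : commutator (Om m F) = ⊤ := perfect_of_le _ (by
    have h := eo_le_commutator_eo (Q := plusQ F (m + 4)) nondeg_plusQ hn5
    rwa [heo] at h)
  have hker : ∀ g, ρ g = 1 → g ∈ Subgroup.center (Om m F) := by
    intro g hg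
    rcases ((Subgroup.Normal.map (inferInstance : (MonoidHom.ker ρ).Normal) _
      (QuotientGroup.mk'_surjective (Subgroup.center (Om m F))))).eq_bot_or_eq_top with h | h
    · have := Subgroup.mem_map_of_mem (QuotientGroup.mk' (Subgroup.center (Om m F))) (MonoidHom.mem_ker.2 hg)
      rw [h, Subgroup.mem_bot] at this
      exact (QuotientGroup.eq_one_iff g).1 this
    exfalso
    have hcen : ∀ a b : Om m F, ρ a * ρ b = ρ b * ρ a := by
      intro a b
      obtain ⟨a', ha', haa⟩ : QuotientGroup.mk' (Subgroup.center (Om m F)) a ∈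
          (MonoidHom.ker ρ).map (QuotientGroup.mk' (Subgroup.center (Om m F))) := h ▸ Subgroup.mem_top _
      have hz : a'⁻¹ * a ∈ Subgroup.center (Om m F) := QuotientGroup.eq.1 haa
      have e : ρ a = ρ (a'⁻¹ * a) := by
        conv_lhs => rw [show a = a' * (a'⁻¹ * a) by group]
        rw [map_mul, MonoidHom.mem_ker.1 ha', one_mul]
      rw [e, ← map_mul, ← map_mul, Subgroup.mem_center_iff.1 hz b]
    have htriv : ∀ g, ρ g = 1 := fun g => trivial_of_commuting ρ hperf hcen g
    have := SLDeg.no_trivial ρ hirr hk (v := Pi.single ⟨0, by omega⟩ 1) fun g => by rw [htriv g]; rfl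
    simpa using congrFun this ⟨0, by omega⟩
  obtain ⟨ψ, hψ⟩ := SLDeg.exists_addChar_ne_one (F := F)
  set E := plusFrame (m := m) hq with hE
  obtain ⟨a, ha, ha2⟩ := exists_scalar hq
  have hcenx : E.x (K0 m F) ∉ Subgroup.center (Om m F) := fun hz => by
    obtain ⟨t20, t21, -, -, -, -⟩ := two_three (m := m)
    let d : Fin (m + 4) → F := fun i => if i = 0 ∨ i = 2 then a else 1
    have hdet : (diagonal d).det = a * a := by
      rw [det_diagonal, Finset.prod_ite, Finset.prod_const, Finset.prod_const_one, mul_one,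
        show Finset.univ.filter (fun i : Fin (m + 4) => i = 0 ∨ i = 2) = {0, 2} by ext i; simp,
        Finset.card_pair t20.symm, _root_.sq]
    obtain ⟨h, hh⟩ := E.lev (diagonal d) (hdet ▸ mul_ne_zero ha ha) (hdet ▸ ⟨a, rfl⟩)
    have h1 := hh (K0 m F)
    rw [← Subgroup.mem_center_iff.1 hz h, mul_left_cancel_iff] at h1
    have h2 := congrArg (fun g : Om m F => g.1) h1
    have h3 := congrArg (fun K : AltM (m + 4) F => K.1 0 1) (xO_injective h2)
    simp [K0, act_val, diagonal_transpose, wedge_apply, d, t21.symm] at h3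
    exact ha2 (by rw [h3, one_mul])
  have hnt : ∃ B, ρ (E.x B) ≠ 1 := ⟨K0 m F, fun h => hcenx (hker _ h)⟩
  have hnt' : ∃ B, ρ (theta m F (E.x B)) ≠ 1 := ⟨K0 m F, fun h => hcenx (by
    have hz := hker _ h
    refine Subgroup.mem_center_iff.2 fun g => theta_injective ?_
    rw [map_mul, map_mul]
    exact Subgroup.mem_center_iff.1 hz _)⟩
  obtain ⟨h1, h2⟩ := dichotomy E ρ hψ hq (theta m F) (theta_x hq) hnt hnt' hlt
  obtain ⟨b, hb⟩ := index_dvd (m := m) hq
  refine no_small q m k _ b (by omega) h1 hb ?_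
  set g₀ := E.x (K0 m F)
  set ix := (Subgroup.centralizer ({g₀} : Set (Om m F))).index
  have hint := Char.centralCharacter_isIntegral (χ := ρ.character) ⟨k, ρ, hirr, rfl⟩ g₀
  rw [Representation.char_one, Module.finrank_fin_fun] at hint
  refine Char.nat_dvd_of_isIntegral (by omega) ?_
  have e : ((ix * q ^ (2 * m + 5) : ℕ) : ℂ) / k = (ix : ℂ) - (ix : ℂ) * ρ.character g₀ / k := by
    have hk0 : (k : ℂ) ≠ 0 := Nat.cast_ne_zero.2 (by omega)
    field_simp
    push_cast
    linear_combination -(ix : ℂ) * h2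
  rw [e]
  exact (isIntegral_algebraMap (x := (ix : ℤ))).sub hint

end Cfsg.Agent.OrthDeg
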