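import Cfsg.Agent.OrthDeg.Structure
import Cfsg.Agent.Classical.OrthBlocks
import Cfsg.Agent.Classical.OrthSimple

/-!
The stabiliser of a maximal totally singular subspace in the commutator subgroup of an isometry group of plus type.
-/

set_option autoImplicit false
set_option linter.unusedSectionVars false

namespace Cfsg.Agent.OrthDeg

open Matrix Module SLDeg QuadraticMap Classical.Quad
open scoped commutatorElement

variable {F : Type*} [Field F] {m : ℕ}

theorem quad_alt {n : ℕ} (B : AltM n F) (u : Fin n → F) : u ⬝ᵥ B.1 *ᵥ u = 0 := by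
  rw [← upper_sub B, sub_mulVec, dotProduct_sub, sub_eq_zero, mulVec_transpose]
  exact (dotProduct_mulVec u _ u).trans (dotProduct_comm _ _)

/-- The radical element. -/
theorem exists_xO {n : ℕ} (B : AltM n F) :
    ∃ h : oG (plusQ F n), ∀ x, h.1 x = (Matrix.fromBlocks 1 0 B.1 1).mulVec x := by
  let g : GL (Fin n ⊕ Fin n) F := ⟨Matrix.fromBlocks 1 0 B.1 1, Matrix.fromBlocks 1 0 (-B.1) 1,
    by rw [Matrix.fromBlocks_multiply]; simp,
    by rw [Matrix.fromBlocks_multiply]; simp⟩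
  have hg : g ∈ Cfsg.isometryGroup F ⇑(plusQ F n) := mem_isometryGroup_iff.2 fun x => by
    show plusQ F n ((Matrix.fromBlocks 1 0 B.1 1).mulVec x) = _
    rw [plusQ_apply, plusQ_apply, Matrix.fromBlocks_mulVec]
    simp only [Sum.elim_inl, Sum.elim_inr, Matrix.zero_mulVec, add_zero, Matrix.one_mulVec]
    show (x ∘ Sum.inl) ⬝ᵥ (B.1.mulVec (x ∘ Sum.inl) + x ∘ Sum.inr) = (x ∘ Sum.inl) ⬝ᵥ (x ∘ Sum.inr)
    rw [dotProduct_add, quad_alt, zero_add]
  exact ⟨oEquiv _ ⟨g, hg⟩, fun x => rfl⟩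

/-- The radical element. -/
noncomputable def xO {n : ℕ} (B : AltM n F) : oG (plusQ F n) := (exists_xO B).choose

theorem xO_apply {n : ℕ} (B : AltM n F) (x : Fin n ⊕ Fin n → F) :
    (xO B).1 x = (Matrix.fromBlocks 1 0 B.1 1).mulVec x := (exists_xO B).choose_spec x

theorem xO_add {n : ℕ} (B C : AltM n F) : xO (B + C) = xO B * xO C := ext_oG fun x => by
  rw [oG_mul_apply, xO_apply, xO_apply, xO_apply, mulVec_mulVec, fromBlocks_multiply]
  simp

theorem xO_injective {n : ℕ} : Function.Injective (xO : AltM n F → oG (plusQ F n)) := fun B C h => by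
  have h1 : Matrix.fromBlocks 1 0 B.1 1 = Matrix.fromBlocks 1 0 C.1 1 := Matrix.ext_of_mulVec_single fun i => by
    rw [← xO_apply, ← xO_apply, h]
  exact Subtype.ext ((Matrix.fromBlocks_inj).1 h1).2.2.1

theorem levi_rel {n : ℕ} {A : Matrix (Fin n) (Fin n) F} (hA : A.det ≠ 0) (h : oG (plusQ F n))
    (hh : ∀ x, h.1 x = (Matrix.fromBlocks A 0 0 A⁻¹ᵀ).mulVec x) (B : AltM n F) :
    h * xO (act Aᵀ B) = xO B * h := ext_oG fun x => by
  have e : A⁻¹ᵀ * (Aᵀ * B.1 * A) = B.1 * A := by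
    rw [← Matrix.mul_assoc, ← Matrix.mul_assoc, ← transpose_mul, Matrix.mul_nonsing_inv A hA.isUnit, transpose_one,
      Matrix.one_mul]
  rw [oG_mul_apply, oG_mul_apply, hh, hh, xO_apply, xO_apply, mulVec_mulVec, mulVec_mulVec, fromBlocks_multiply,
    fromBlocks_multiply, act_val, transpose_transpose]
  simp [e]

variable [Fintype F]

/-- The commutator subgroup. -/
abbrev Om (m : ℕ) (F : Type*) [Field F] := ↥(commutator (oG (plusQ F (m + 4))))

theorem hexP : Nat.card F ≠ 2 ∨ finrank F (Fin (m + 4) ⊕ Fin (m + 4) → F) ≠ 4 := Or.inr (by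
  rw [finrank_plus]; omega)

theorem exists_scalar (hq : 3 < Fintype.card F) : ∃ a : F, a ≠ 0 ∧ a * a ≠ 1 := by
  classical
  obtain ⟨a, ha⟩ : ∃ a : F, a ∉ ({0, 1, -1} : Finset F) := by
    by_contra hc
    push Not at hc
    have := (Finset.card_le_card (s := (Finset.univ : Finset F)) fun x _ => hc x).trans Finset.card_le_three
    rw [Finset.card_univ] at this
    omega
  simp only [Finset.mem_insert, Finset.mem_singleton, not_or] at ha
  exact ⟨a, ha.1, fun h => (mul_self_eq_one_iff.1 h).elim ha.2.1 ha.2.2⟩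

theorem xO_mem (hq : 3 < Fintype.card F) (B : AltM (m + 4) F) :
    xO B ∈ commutator (oG (plusQ F (m + 4))) := by
  obtain ⟨a, ha, ha2⟩ := exists_scalar hq
  have hA : (a • (1 : Matrix (Fin (m + 4)) (Fin (m + 4)) F)).det ≠ 0 := by
    rw [det_smul, det_one, mul_one]; exact pow_ne_zero _ ha
  obtain ⟨h, hh⟩ := exists_leviO (a • (1 : Matrix (Fin (m + 4)) (Fin (m + 4)) F)) _ (Matrix.mul_nonsing_inv _ hA.isUnit)
  let B' : AltM (m + 4) F := act ((a⁻¹ : F) • (1 : Matrix (Fin (m + 4)) (Fin (m + 4)) F)) B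
  -- a scalar multiple of the matrix
  let C : AltM (m + 4) F := ⟨(1 - a * a)⁻¹ • B.1, by
    refine ⟨by rw [transpose_smul, B.2.1, smul_neg], fun i => by simp [alt_diag]⟩⟩
  have e : act (a • (1 : Matrix (Fin (m + 4)) (Fin (m + 4)) F))ᵀ C + B = C := Subtype.ext (by
    show (a • (1 : Matrix (Fin (m + 4)) (Fin (m + 4)) F))ᵀ * ((1 - a * a)⁻¹ • B.1)
      * (a • (1 : Matrix (Fin (m + 4)) (Fin (m + 4)) F))ᵀᵀ + B.1 = (1 - a * a)⁻¹ • B.1
    simp only [transpose_smul, transpose_one, Matrix.smul_mul, Matrix.mul_smul, Matrix.one_mul, Matrix.mul_one, smul_smul]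
    ext i j
    simp only [Matrix.add_apply, Matrix.smul_apply, smul_eq_mul]
    have : (1 : F) - a * a ≠ 0 := sub_ne_zero.2 (fun h => ha2 h.symm)
    have h3 : ((1 : F) - a * a) * (1 - a * a)⁻¹ = 1 := mul_inv_cancel₀ this
    linear_combination -(B.1 i j) * h3)
  have h1 := levi_rel hA h hh C
  have h2 : xO B = ⁅(h⁻¹ : oG (plusQ F (m + 4))), xO C⁆⁻¹ := by
    have e2 : (h⁻¹ : oG (plusQ F (m + 4))) * xO C * h = xO (act (a • (1 : Matrix (Fin (m + 4)) (Fin (m + 4)) F))ᵀ C) := by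
      rw [mul_assoc, ← h1, inv_mul_cancel_left]
    rw [commutatorElement_def, inv_inv, e2, eq_inv_iff_mul_eq_one, ← mul_assoc, mul_inv_eq_one, ← xO_add, (add_comm _ _).trans e]
  rw [h2, commutator_def]
  exact inv_mem (Subgroup.commutator_mem_commutator (Subgroup.mem_top _) (Subgroup.mem_top _))

theorem levi_mem {A : Matrix (Fin (m + 4)) (Fin (m + 4)) F} (hA : A.det ≠ 0) (hsq : IsSquare A.det)
    (h : oG (plusQ F (m + 4))) (hh : ∀ x, h.1 x = (Matrix.fromBlocks A 0 0 A⁻¹ᵀ).mulVec x) :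
    h ∈ commutator (oG (plusQ F (m + 4))) := by
  obtain ⟨h1, h2⟩ := chars_levi hexP hA h hh
  exact (mem_commutator_chars nondeg_plusQ hexP h).2 ⟨h1, fun h2' => by rw [h2 h2']; exact qs_eq_one.2 hsq⟩

theorem exists_LO (A : SLn (m + 4) F) : ∃ h : Om m F, ∀ x,
    h.1.1 x = (Matrix.fromBlocks A.1 0 0 A.1⁻¹ᵀ).mulVec x := by
  have hd : A.1.det ≠ 0 := by rw [A.2]; exact one_ne_zero
  obtain ⟨h, hh⟩ := exists_leviO A.1 A.1⁻¹ (Matrix.mul_nonsing_inv _ hd.isUnit)
  exact ⟨⟨h, levi_mem hd (by rw [A.2]; exact IsSquare.one) h hh⟩, hh⟩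

/-- The Levi embedding. -/
noncomputable def LO : SLn (m + 4) F →* Om m F :=
  MonoidHom.mk' (fun A => (exists_LO A).choose) fun A B => Subtype.ext (ext_oG fun x => by
    rw [Subgroup.coe_mul, oG_mul_apply, (exists_LO (A * B)).choose_spec, (exists_LO A).choose_spec,
      (exists_LO B).choose_spec, mulVec_mulVec, fromBlocks_multiply, Matrix.SpecialLinearGroup.coe_mul,
      Matrix.mul_inv_rev, transpose_mul]
    simp)

theorem LO_apply (A : SLn (m + 4) F) (x : Fin (m + 4) ⊕ Fin (m + 4) → F) :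
    (LO A).1.1 x = (Matrix.fromBlocks A.1 0 0 A.1⁻¹ᵀ).mulVec x := (exists_LO A).choose_spec x

/-- The frame of the plus type. -/
noncomputable def plusFrame (hq : 3 < Fintype.card F) : Frame m F (Om m F) where
  x B := ⟨xO B, xO_mem hq B⟩
  x_add B C := Subtype.ext (xO_add B C)
  lev A hA hsq := by
    obtain ⟨h, hh⟩ := exists_leviO A A⁻¹ (Matrix.mul_nonsing_inv _ hA.isUnit)
    exact ⟨⟨h, levi_mem hA hsq h hh⟩, fun B => Subtype.ext (levi_rel hA h hh B)⟩
  L := LO
  hL A B := Subtype.ext (levi_rel (by rw [A.2]; exact one_ne_zero) _ (LO_apply A) B)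

/-! ### The outer automorphism -/

/-- The exchange of the first pair. -/
noncomputable def swap0 (m : ℕ) (F : Type*) [Field F] : oG (plusQ F (m + 4)) :=
  ⟨LinearEquiv.funCongrLeft F F (Equiv.swap (Sum.inl 0) (Sum.inr 0)), fun x => by
    rw [plusQ_apply, plusQ_apply]
    refine Finset.sum_congr rfl fun i _ => ?_
    rcases eq_or_ne i 0 with rfl | hi
    · simp [LinearEquiv.funCongrLeft_apply, LinearMap.funLeft, mul_comm]
    · simp [LinearEquiv.funCongrLeft_apply, LinearMap.funLeft, Equiv.swap_apply_of_ne_of_ne, hi]⟩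

theorem swap0_apply (x : Fin (m + 4) ⊕ Fin (m + 4) → F) :
    (swap0 m F).1 x = x ∘ Equiv.swap (Sum.inl 0) (Sum.inr 0) := rfl

/-- Conjugation by the exchange. -/
noncomputable def theta (m : ℕ) (F : Type*) [Field F] : Om m F →* Om m F :=
  MonoidHom.mk' (fun g => ⟨swap0 m F * g.1 * (swap0 m F)⁻¹,
    (inferInstance : (commutator (oG (plusQ F (m + 4)))).Normal).conj_mem _ g.2 _⟩) fun g h => Subtype.ext (by
    show swap0 m F * (g.1 * h.1) * _ = swap0 m F * g.1 * _ * (swap0 m F * h.1 * _)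
    simp [mul_assoc])

theorem theta_injective : Function.Injective (theta m F) := fun g h e => by
  have h1 := congrArg Subtype.val e
  exact Subtype.ext (mul_left_cancel (mul_right_cancel (by exact h1)))

theorem theta_x (hq : 3 < Fintype.card F) (B : AltM (m + 4) F) :
    ∃ (C : AltM (m + 4) F) (t : Fin (m + 4) → F) (ht : t ⬝ᵥ e 0 = 0),
      C.1 0 1 = 0 ∧ theta m F ((plusFrame hq).x B) = (plusFrame hq).x C * (plusFrame hq).L (tv (e 0) t ht) := by
  classical
  set d : Fin (m + 4) → F := fun i => if i = 0 then 0 else 1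
  set t : Fin (m + 4) → F := fun j => B.1 0 j with htdef
  have ht : t ⬝ᵥ e 0 = 0 := by simp [t, alt_diag]
  refine ⟨act (diagonal d) B, t, ht, by simp [act_val, diagonal_transpose, d], Subtype.ext ?_⟩
  show swap0 m F * xO B * (swap0 m F)⁻¹ = xO (act (diagonal d) B) * (LO (tv (e 0) t ht)).1
  rw [mul_inv_eq_iff_eq_mul]
  refine ext_oG fun x => ?_
  have hinv : (tv (e 0) t ht).1⁻¹ = (tv (e 0) (-t) (by rw [neg_dotProduct, ht, neg_zero])).1 :=
    Matrix.inv_eq_right_inv (by
      rw [← Matrix.SpecialLinearGroup.coe_mul, tv_mul_right, tv_congr _ (by simp) rfl (add_neg_cancel t), tv_zero_right,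
        Matrix.SpecialLinearGroup.coe_one])
  rw [oG_mul_apply, oG_mul_apply, oG_mul_apply, swap0_apply, swap0_apply, xO_apply, xO_apply, LO_apply, hinv]
  set C := act (diagonal d) B with hCdef
  have hC : ∀ i j, C.1 i j = d i * B.1 i j * d j := fun i j => by
    simp [C, act_val, diagonal_transpose, mul_diagonal, diagonal_mul]
  have hA : ∀ (u : Fin (m + 4) → F) i, ((tv (e 0) t ht).1 *ᵥ u) i = u i + (e 0 : Fin (m + 4) → F) i * (t ⬝ᵥ u) :=
    fun u i => by
      rw [← smul_eq, tv_apply, Pi.add_apply, Pi.smul_apply, smul_eq_mul, mul_comm]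
  have hAT : ∀ (w : Fin (m + 4) → F) i,
      ((tv (e 0) (-t) (by rw [neg_dotProduct, ht, neg_zero])).1ᵀ *ᵥ w) i = w i - t i * w 0 := fun w i => by
    simp [tv, Matrix.transpose_add, Matrix.transpose_vecMulVec, Matrix.add_mulVec, Matrix.vecMulVec_mulVec,
      Matrix.neg_mulVec, neg_vecMulVec, vecMulVec_neg, sub_eq_add_neg, mul_comm]
  have hd0 : d 0 = 0 := by simp [d]
  have hd1 : ∀ i, i ≠ 0 → d i = 1 := fun i hi => by simp [d, hi]
  funext s
  rw [fromBlocks_mulVec, fromBlocks_mulVec, fromBlocks_mulVec]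
  simp only [Matrix.zero_mulVec, add_zero, zero_add, Matrix.one_mulVec, Sum.elim_comp_inl, Sum.elim_comp_inr,
    Function.comp_apply]
  have su : ∀ j, j ≠ 0 → (Equiv.swap (Sum.inl 0) (Sum.inr 0)) (Sum.inl j : Fin (m + 4) ⊕ Fin (m + 4)) = Sum.inl j :=
    fun j hj => Equiv.swap_apply_of_ne_of_ne (by simp [hj]) (by simp)
  have sw : ∀ j, j ≠ 0 → (Equiv.swap (Sum.inl 0) (Sum.inr 0)) (Sum.inr j : Fin (m + 4) ⊕ Fin (m + 4)) = Sum.inr j :=
    fun j hj => Equiv.swap_apply_of_ne_of_ne (by simp) (by simp [hj])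
  rcases s with i | i
  · rcases eq_or_ne i 0 with rfl | hi
    · rw [Equiv.swap_apply_left]
      simp only [Sum.elim_inr, Sum.elim_inl, Pi.add_apply, hA, e_self, one_mul, Function.comp_apply,
        Equiv.swap_apply_left]
      simp only [mulVec, dotProduct, Function.comp_apply]
      rw [add_comm]
      congr 1
      refine Finset.sum_congr rfl fun j _ => ?_
      rcases eq_or_ne j 0 with rfl | hj
      · simp [t, alt_diag]
      · rw [su j hj]
    · rw [su i hi]
      simp only [Sum.elim_inl, hA, e_ne hi, zero_mul, add_zero, Function.comp_apply, su i hi]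
  · rcases eq_or_ne i 0 with rfl | hi
    · rw [Equiv.swap_apply_right]
      simp only [Sum.elim_inl, Sum.elim_inr, Pi.add_apply, hAT, Function.comp_apply, Equiv.swap_apply_right]
      simp [mulVec, dotProduct, hC, hd0, t, alt_diag]
    · rw [sw i hi]
      simp only [Sum.elim_inr, Pi.add_apply, hAT, Function.comp_apply, Equiv.swap_apply_right, sw i hi]
      have hsum : ∀ f : Fin (m + 4) → F, ∑ j, f j = f 0 + ∑ j ∈ Finset.univ.erase 0, f j := fun f =>
        (Finset.add_sum_erase _ f (Finset.mem_univ 0)).symm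
      have mv : ∀ (M : Matrix (Fin (m + 4)) (Fin (m + 4)) F) v, (M *ᵥ v) i = ∑ j, M i j * v j := fun M v => rfl
      rw [mv B.1, mv C.1, hsum, hsum fun j => C.1 i j * _, hC, hd0, Finset.sum_congr rfl fun j hj => ?_]
      · rw [show t i = -B.1 i 0 from alt_swap B i 0]
        simp only [Function.comp_apply]
        ring
      · have hj0 := Finset.ne_of_mem_erase hj
        show B.1 i j * x (Sum.inl j) = C.1 i j * _
        rw [hC, hd1 i hi, hd1 j hj0, one_mul, mul_one, hA, e_ne hj0, zero_mul, add_zero]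
        simp only [Function.comp_apply, su j hj0]

end Cfsg.Agent.OrthDeg
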