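import Cfsg.Agent.OrthDeg.AltForm
import Cfsg.Agent.OrthDeg.SLRep
import Cfsg.Agent.D4Deg.Fourier

/-!
The spectrum of a small representation on the abelian radical of the stabiliser of a maximal totally singular subspace.
-/

set_option autoImplicit false
set_option linter.unusedSectionVars false

namespace Cfsg.Agent.OrthDeg

open Matrix Module SLDeg

variable {F : Type*} [Field F] [Fintype F] {m : ℕ} {G : Type*} [Group G]

noncomputable instance : Fintype (AltM (m + 4) F) := Fintype.ofFinite _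

/-- An abelian subgroup of alternating matrices normalised by a linear group. -/
structure Frame (m : ℕ) (F : Type*) [Field F] (G : Type*) [Group G] where
  x : AltM (m + 4) F → G
  x_add : ∀ B C, x (B + C) = x B * x C
  lev : ∀ A : Matrix (Fin (m + 4)) (Fin (m + 4)) F, A.det ≠ 0 → IsSquare A.det →
    ∃ h : G, ∀ B, h * x (act Aᵀ B) = x B * h
  L : SLn (m + 4) F →* G
  hL : ∀ A B, L A * x (act A.1ᵀ B) = x B * L A

variable (E : Frame m F G) (ψ : AddChar F ℂ) {k : ℕ} (ρ : Representation ℂ G (Fin k → ℂ))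

/-- The character of a matrix. -/
def lam (K : AltM (m + 4) F) : AddChar (AltM (m + 4) F) ℂ where
  toFun B := ψ (pair K B)
  map_zero_eq_one' := by
    have : pair K 0 = 0 := by simp [pair]
    rw [this, AddChar.map_zero_eq_one]
  map_add_eq_mul' B C := by rw [pair_add, AddChar.map_add_eq_mul]

/-- The eigenspace of a matrix. -/
def eigS (K : AltM (m + 4) F) : Submodule ℂ (Fin k → ℂ) := ⨅ B, LinearMap.ker (ρ (E.x B) - lam ψ K B • 1)

theorem mem_eigS {K : AltM (m + 4) F} {v : Fin k → ℂ} :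
    v ∈ eigS E ψ ρ K ↔ ∀ B, ρ (E.x B) v = ψ (pair K B) • v := by
  simp [eigS, Submodule.mem_iInf, sub_eq_zero, lam]

/-- The multiplicity. -/
noncomputable def mult (K : AltM (m + 4) F) : ℕ := finrank ℂ (eigS E ψ ρ K)

theorem x_zero : E.x 0 = 1 := by
  have h := E.x_add 0 0
  rwa [add_zero, left_eq_mul] at h

/-- The map of an isometry on eigenspaces. -/
theorem move_mem {A : Matrix (Fin (m + 4)) (Fin (m + 4)) F} {h : G} (hh : ∀ B, h * E.x (act Aᵀ B) = E.x B * h)
    {K : AltM (m + 4) F} {v : Fin k → ℂ} (hv : v ∈ eigS E ψ ρ K) : ρ h v ∈ eigS E ψ ρ (act A K) := by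
  refine (mem_eigS E ψ ρ).2 fun B => ?_
  rw [← Module.End.mul_apply, ← map_mul, ← hh, map_mul, Module.End.mul_apply, (mem_eigS E ψ ρ).1 hv, map_smul,
    pair_act]

theorem mult_le_act {A : Matrix (Fin (m + 4)) (Fin (m + 4)) F} (hA : A.det ≠ 0) (hsq : IsSquare A.det)
    (K : AltM (m + 4) F) : mult E ψ ρ K ≤ mult E ψ ρ (act A K) := by
  obtain ⟨h, hh⟩ := E.lev A hA hsq
  have hinj : Function.Injective (ρ h) := Function.LeftInverse.injective (g := ρ h⁻¹) fun v => by
    rw [← Module.End.mul_apply, ← map_mul, inv_mul_cancel, map_one, Module.End.one_apply]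
  rw [mult, ← LinearMap.finrank_range_of_inj (f := (ρ h).domRestrict (eigS E ψ ρ K))
    (fun v w e => Subtype.ext (hinj e))]
  refine Submodule.finrank_mono ?_
  rintro _ ⟨v, rfl⟩
  exact move_mem E ψ ρ hh v.2

theorem mult_act {A : Matrix (Fin (m + 4)) (Fin (m + 4)) F} (hA : A.det ≠ 0) (hsq : IsSquare A.det)
    (K : AltM (m + 4) F) : mult E ψ ρ (act A K) = mult E ψ ρ K := by
  refine le_antisymm ?_ (mult_le_act E ψ ρ hA hsq K)
  have h1 : A⁻¹.det ≠ 0 ∧ IsSquare A⁻¹.det := by
    rw [det_nonsing_inv, Ring.inverse_eq_inv']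
    exact ⟨inv_ne_zero hA, hsq.inv⟩
  have := mult_le_act E ψ ρ h1.1 h1.2 (act A K)
  rwa [← act_mul, Matrix.nonsing_inv_mul A hA.isUnit, act_one] at this

/-- The multiplicities as averages of the character. -/
theorem mult_eq (K : AltM (m + 4) F) :
    (Fintype.card (AltM (m + 4) F) : ℂ) * mult E ψ ρ K = ∑ B, ψ (pair K (-B)) * ρ.character (E.x B) := by
  let ι : Multiplicative (AltM (m + 4) F) →* G :=
    { toFun := fun a => E.x a.toAdd, map_one' := x_zero E, map_mul' := fun a b => E.x_add _ _ }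
  let f : Multiplicative (AltM (m + 4) F) →* ℂ :=
    { toFun := fun a => lam ψ K (-a.toAdd)
      map_one' := by simp
      map_mul' := fun a b => by
        rw [← AddChar.map_add_eq_mul, toAdd_mul, neg_add] }
  have h := D4Deg.sum_char_inv (D4Deg.twistBy (MonoidHom.comp ρ ι : Representation ℂ _ (Fin k → ℂ)) f)
  have e : (D4Deg.twistBy (MonoidHom.comp ρ ι : Representation ℂ _ (Fin k → ℂ)) f).invariants = eigS E ψ ρ K := by
    ext v
    rw [mem_eigS]
    constructor
    · intro hv B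
      have hv' : lam ψ K (-B) • ρ (E.x B) v = v := hv (Multiplicative.ofAdd B)
      calc ρ (E.x B) v = (lam ψ K B * lam ψ K (-B)) • ρ (E.x B) v := by
            rw [← AddChar.map_add_eq_mul, add_neg_cancel, AddChar.map_zero_eq_one, one_smul]
        _ = _ := by rw [mul_smul, hv']; rfl
    · intro hv a
      show lam ψ K (-a.toAdd) • ρ (E.x a.toAdd) v = v
      rw [hv, smul_smul]
      show (lam ψ K (-a.toAdd) * lam ψ K a.toAdd) • v = v
      rw [← AddChar.map_add_eq_mul, neg_add_cancel, AddChar.map_zero_eq_one, one_smul]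
  rw [e, Nat.card_eq_fintype_card, Fintype.card_multiplicative] at h
  rw [mult, ← h]
  exact Fintype.sum_equiv Multiplicative.toAdd _ _ fun a => by
    show LinearMap.trace ℂ _ (lam ψ K (-a.toAdd) • ρ (E.x a.toAdd)) = _
    rw [map_smul, smul_eq_mul]
    rfl

variable {ψ}

theorem pair_wedge (t : F) (i j : Fin (m + 4)) (hij : i < j) (K : AltM (m + 4) F) :
    pair K (wedge (t • e i) (e j)) = t * K.1 i j := by
  have h : t • vecMulVec (e i) (e j) - (t • vecMulVec (e i) (e j))ᵀ = (wedge (t • e i : Fin (m + 4) → F) (e j)).1 := by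
    simp [wedge, transpose_vecMulVec, smul_vecMulVec, vecMulVec_smul]
  rw [pair_comm, pair_eq h, ← sum_eq_trace]
  rw [Finset.sum_eq_single i (fun a _ ha => Finset.sum_eq_zero fun b _ => by simp [vecMulVec_apply, e_ne ha]) (by simp),
    Finset.sum_eq_single j (fun b _ hb => by simp [vecMulVec_apply, e_ne hb]) (by simp)]
  simp [vecMulVec_apply]

theorem lam_ne (hψ : ψ ≠ 1) {K : AltM (m + 4) F} (hK : K ≠ 0) : ∃ B, ψ (pair K B) ≠ 1 := by
  obtain ⟨i, j, hij⟩ : ∃ i j, K.1 i j ≠ 0 := by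
    by_contra hc
    push Not at hc
    exact hK (Subtype.ext (Matrix.ext hc))
  obtain ⟨i, j, hlt, hij⟩ : ∃ i j, i < j ∧ K.1 i j ≠ 0 := by
    rcases lt_trichotomy i j with h | h | h
    · exact ⟨i, j, h, hij⟩
    · exact absurd (h ▸ alt_diag K i) hij
    · exact ⟨j, i, h, by rw [alt_swap K i j]; exact neg_ne_zero.2 hij⟩
  by_contra hc
  push Not at hc
  refine hψ (DFunLike.ext _ _ fun t => ?_)
  have := hc (wedge ((t / K.1 i j) • e i) (e j))
  rwa [pair_wedge _ i j hlt, div_mul_cancel₀ _ hij] at this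

theorem sum_lam (hψ : ψ ≠ 1) (B : AltM (m + 4) F) [Decidable (B = 0)] :
    ∑ K, ψ (pair K B) = if B = 0 then (Fintype.card (AltM (m + 4) F) : ℂ) else 0 := by
  classical
  have e : ∀ K, ψ (pair K B) = lam ψ B K := fun K => by rw [pair_comm]; rfl
  simp_rw [e]
  rw [AddChar.sum_eq_ite]
  refine if_congr ⟨fun h => ?_, fun h => ?_⟩ rfl rfl
  · by_contra hB
    obtain ⟨C, hC⟩ := lam_ne hψ hB
    exact hC (DFunLike.congr_fun h C)
  · subst h
    exact DFunLike.ext _ _ fun C => by
      show ψ (pair 0 C) = 1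
      simp [pair, AddChar.map_zero_eq_one]

/-- The character on the radical. -/
theorem char_eq (hψ : ψ ≠ 1) (B : AltM (m + 4) F) :
    ρ.character (E.x B) = ∑ K, (mult E ψ ρ K : ℂ) * ψ (pair K B) := by
  classical
  have hA : (Fintype.card (AltM (m + 4) F) : ℂ) ≠ 0 := Nat.cast_ne_zero.2 Fintype.card_ne_zero
  refine mul_left_cancel₀ hA ?_
  rw [Finset.mul_sum]
  simp_rw [← mul_assoc, mult_eq, Finset.sum_mul]
  rw [Finset.sum_comm]
  have e : ∀ K B', ψ (pair K (-B')) * ρ.character (E.x B') * ψ (pair K B) =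
      ρ.character (E.x B') * ψ (pair K (B - B')) := fun K B' => by
    rw [sub_eq_neg_add, pair_add, AddChar.map_add_eq_mul]; ring
  simp_rw [e, ← Finset.mul_sum, sum_lam hψ, sub_eq_zero, mul_ite, mul_zero]
  rw [Finset.sum_ite_eq, if_pos (Finset.mem_univ _), mul_comm]

theorem sum_mult (hψ : ψ ≠ 1) : ∑ K, mult E ψ ρ K = k := by
  have h := char_eq E ρ hψ 0
  rw [x_zero, Representation.char_one, Module.finrank_fin_fun] at h
  have e : ∀ K : AltM (m + 4) F, pair K 0 = 0 := fun K => by simp [pair]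
  simp only [e, AddChar.map_zero_eq_one, mul_one] at h
  exact_mod_cast h.symm

/-! ### Small representations -/

theorem big_ineq (q : ℕ) (hq : 4 ≤ q) (m : ℕ) :
    (q ^ (m + 4) - 1) * (q ^ (m + 3) + q) ≤ 2 * (q ^ (m + 3) - 1) * q ^ (m + 2) * (q ^ 2 - 1) := by
  obtain ⟨X, hX⟩ : ∃ X, X = q ^ (m + 2) := ⟨_, rfl⟩
  have h16 : 16 ≤ X := hX ▸ (Nat.pow_le_pow_left hq 2).trans (Nat.pow_le_pow_right (by omega) (by omega))
  rw [show q ^ (m + 4) = q * q * X by rw [hX]; ring, show q ^ (m + 3) = q * X by rw [hX]; ring, ← hX]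
  have h1 : 1 ≤ q * X := Nat.one_le_iff_ne_zero.2 (Nat.mul_ne_zero (by omega) (by omega))
  have h2 : 1 ≤ q ^ 2 := Nat.one_le_pow _ _ (by omega)
  have h3 : 1 ≤ q * q * X := Nat.one_le_iff_ne_zero.2 (Nat.mul_ne_zero (Nat.mul_ne_zero (by omega) (by omega)) (by omega))
  zify [h1, h2, h3]
  nlinarith [mul_le_mul_of_nonneg_left (show (16 : ℤ) ≤ X by exact_mod_cast h16)
    (show (0 : ℤ) ≤ q * q * q * X by positivity), show (4 : ℤ) ≤ q by exact_mod_cast hq,
    mul_le_mul_of_nonneg_right (show (4 : ℤ) ≤ q by exact_mod_cast hq) (show (0 : ℤ) ≤ q * q * X by positivity)]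

/-- The spectrum of a small representation nontrivial on the radical. -/
theorem small (hψ : ψ ≠ 1) [Fintype (O2 m F)] (hq : 3 < Fintype.card F) (hnt : ∃ B, ρ (E.x B) ≠ 1)
    (hk : k * (Fintype.card F ^ 2 - 1) <
      (Fintype.card F ^ (m + 4) - 1) * (Fintype.card F ^ (m + 3) + Fintype.card F)) :
    (∀ K, K ≠ 0 → (K ∈ O2 m F → mult E ψ ρ K = 1) ∧ (K ∉ O2 m F → mult E ψ ρ K = 0)) ∧
      k = mult E ψ ρ 0 + Fintype.card (O2 m F) := by
  classical
  set q := Fintype.card F with hqdef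
  have hsum := sum_mult E ρ hψ
  have hq1 : 0 < q ^ 2 - 1 := by
    have : 4 ^ 2 ≤ q ^ 2 := Nat.pow_le_pow_left hq 2
    omega
  have hN : (q ^ 2 - 1) * Fintype.card (O2 m F) = (q ^ (m + 4) - 1) * (q ^ (m + 3) - 1) := by
    have h := card_O2 (m := m) (F := F)
    rw [← hqdef] at h
    rw [show q ^ (m + 4) - q = q * (q ^ (m + 3) - 1) by rw [Nat.mul_sub, mul_one, pow_succ'], mul_assoc,
      mul_left_comm _ q] at h
    exact Nat.eq_of_mul_eq_mul_left (show 0 < q by omega) h
  obtain ⟨a, ha, ha2⟩ : ∃ a : F, a ≠ 0 ∧ a * a ≠ 1 := by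
    obtain ⟨a, ha⟩ : ∃ a : F, a ∉ ({0, 1, -1} : Finset F) := by
      by_contra hc
      push Not at hc
      have := (Finset.card_le_card (s := (Finset.univ : Finset F)) fun x _ => hc x).trans Finset.card_le_three
      rw [Finset.card_univ] at this
      omega
    simp only [Finset.mem_insert, Finset.mem_singleton, not_or] at ha
    exact ⟨a, ha.1, fun h => (mul_self_eq_one_iff.1 h).elim ha.2.1 ha.2.2⟩
  -- only the orbit of rank two
  have honly : ∀ K, K ≠ 0 → mult E ψ ρ K ≠ 0 → K ∈ O2 m F := by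
    intro K hK hd
    obtain ⟨A, hA | hA⟩ := exists_normal K hK
    · refine ⟨A⁻¹, ?_⟩
      rw [← hA, ← act_mul, ← Matrix.SpecialLinearGroup.coe_mul, inv_mul_cancel, Matrix.SpecialLinearGroup.coe_one,
        act_one]
    exfalso
    set K' := act A.1 K
    have hd' : mult E ψ ρ K' ≠ 0 := by
      rw [mult_act E ψ ρ (by rw [A.2]; exact one_ne_zero) (by rw [A.2]; exact IsSquare.one)]; exact hd
    set S := {K'' | ∃ A : Matrix (Fin (m + 4)) (Fin (m + 4)) F, A.det ≠ 0 ∧ IsSquare A.det ∧ act A K' = K''}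
    have h1 : S.ncard ≤ k := by
      rw [Set.ncard_eq_toFinset_card', Finset.card_eq_sum_ones, ← hsum]
      refine le_trans (Finset.sum_le_sum fun K'' hK'' => ?_) (Finset.sum_le_univ_sum_of_nonneg fun _ => Nat.zero_le _)
      obtain ⟨B, hB, hB2, rfl⟩ := Set.mem_toFinset.1 hK''
      rw [mult_act E ψ ρ hB hB2]
      omega
    have h2 := (big_orbit K' hA ha ha2).trans h1
    have h3 := big_ineq q hq m
    exact absurd (h3.trans (Nat.mul_le_mul_right (q ^ 2 - 1) h2)) (not_le.2 hk)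
  obtain ⟨c, hc⟩ : ∃ c, ∀ K ∈ O2 m F, mult E ψ ρ K = c := ⟨mult E ψ ρ (K0 m F), fun K ⟨A, hA⟩ => by
    rw [← hA, mult_act E ψ ρ (by rw [A.2]; exact one_ne_zero) (by rw [A.2]; exact IsSquare.one)]⟩
  have hO0 : ∀ K ∈ O2 m F, K ≠ 0 := by
    rintro K ⟨A, rfl⟩ h0
    have := congrArg (fun K : AltM (m + 4) F => K.1 0 1)
      (act_injective (show IsUnit A.1.det by rw [A.2]; exact isUnit_one) (h0.trans (map_zero (act A.1)).symm))
    simp [K0, wedge_apply] at this
  have hsplit : k = mult E ψ ρ 0 + Fintype.card (O2 m F) * c := by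
    refine hsum.symm.trans ?_
    rw [← Finset.sum_erase_add _ _ (Finset.mem_univ (0 : AltM (m + 4) F)), add_comm]
    congr 1
    rw [← Finset.sum_subset (s₁ := (O2 m F).toFinset)]
    · rw [Finset.sum_congr rfl fun K hK => hc K (Set.mem_toFinset.1 hK), Finset.sum_const, smul_eq_mul,
        Set.toFinset_card]
    · exact fun K hK => Finset.mem_erase.2 ⟨hO0 K (Set.mem_toFinset.1 hK), Finset.mem_univ K⟩
    · intro K hK hK'
      by_contra h
      exact hK' (Set.mem_toFinset.2 (honly K (Finset.ne_of_mem_erase hK) h))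
  have hc1 : c = 1 := by
    rcases Nat.lt_or_ge c 1 with h | h
    · exfalso
      obtain ⟨B, hB⟩ := hnt
      refine hB ?_
      have h0 : mult E ψ ρ 0 = k := by
        have h' := hsplit
        rw [show c = 0 by omega, mul_zero, add_zero] at h'
        exact h'.symm
      have htop : eigS E ψ ρ 0 = ⊤ := Submodule.eq_top_of_finrank_eq (by
        rw [Module.finrank_fin_fun]; exact h0)
      refine LinearMap.ext fun v => ?_
      have := (mem_eigS E ψ ρ).1 (htop ▸ Submodule.mem_top : v ∈ eigS E ψ ρ 0) B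
      simpa [pair, AddChar.map_zero_eq_one] using this
    · by_contra h2
      have h3 : Fintype.card (O2 m F) * 2 ≤ k := by
        refine le_of_le_of_eq ?_ hsplit.symm
        exact le_add_of_nonneg_of_le (Nat.zero_le _) (Nat.mul_le_mul_left _ (by omega))
      have h4 := Nat.mul_le_mul_left (q ^ 2 - 1) h3
      rw [← mul_assoc, hN, mul_assoc, mul_comm (q ^ 2 - 1) k] at h4
      have h5 : q ^ (m + 3) + q ≤ (q ^ (m + 3) - 1) * 2 := by
        have h6 : q * q ≤ q ^ (m + 3) := by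
          rw [← sq]; exact Nat.pow_le_pow_right (by omega) (by omega)
        have h7 : 4 * q ≤ q * q := Nat.mul_le_mul_right q hq
        omega
      have h8 := Nat.mul_le_mul_left (q ^ (m + 4) - 1) h5
      omega
  subst hc1
  refine ⟨fun K hK => ⟨hc K, fun h => ?_⟩, by rwa [mul_one] at hsplit⟩
  by_contra h'
  exact h (honly K hK h')

/-- A proper torus element. -/
theorem exists_torus {a : F} (ha : a ≠ 0) : ∃ D : SLn (m + 4) F, act D.1 (K0 m F) = K0 m F ∧
    ∀ (s : Fin (m + 4) → F) (hs : s ⬝ᵥ e 0 = 0) (hs' : (fun i => (if i = 1 then a * a else a) * s i) ⬝ᵥ e 0 = 0),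
      D * tv (e 0) s hs = tv (e 0) (fun i => (if i = 1 then a * a else a) * s i) hs' * D := by
  classical
  let d : Fin (m + 4) → F := fun i => if i = 0 then a else if i = 1 then a⁻¹ else 1
  have hd : (diagonal d).det = 1 := by
    rw [det_diagonal, Fin.prod_univ_succ, Fin.prod_univ_succ, Finset.prod_eq_one]
    · simp [d, mul_inv_cancel₀ ha]
    · intro i _
      simp [d, Fin.succ_ne_zero, show (i.succ.succ : Fin (m + 4)) ≠ 1 by
        rw [show (1 : Fin (m + 4)) = Fin.succ 0 from rfl, ne_eq, Fin.succ_inj]; exact Fin.succ_ne_zero i]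
  refine ⟨mkSL (diagonal d) hd, ?_, fun s hs hs' => sl_ext fun x => ?_⟩
  · rw [K0, act_wedge, mkSL_val, diagonal_mulVec_single, diagonal_mulVec_single, mul_one, mul_one]
    refine Subtype.ext (Matrix.ext fun i j => ?_)
    simp only [wedge_apply, d, Pi.single_apply]
    split_ifs <;> simp_all
  · rw [mul_smul, mul_smul, mkSL_apply, tv_apply, tv_apply, mkSL_apply]
    funext i
    simp only [mulVec_diagonal, Pi.add_apply, Pi.smul_apply, smul_eq_mul]
    have e1 : (fun j => (if j = 1 then a * a else a) * s j) ⬝ᵥ (diagonal d *ᵥ x) = a * (s ⬝ᵥ x) := by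
      simp only [dotProduct, mulVec_diagonal, Finset.mul_sum]
      refine Finset.sum_congr rfl fun j _ => ?_
      rcases eq_or_ne j 0 with rfl | h0
      · have : s 0 = 0 := by simpa using hs
        simp [this]
      rcases eq_or_ne j 1 with rfl | h1
      · simp [d]; field_simp
      · simp [d, h0, h1]; ring
    rw [e1]
    rcases eq_or_ne i 0 with rfl | h0
    · simp [d]; ring
    · simp [e_ne h0]

/-- Two small representations exchanged by an automorphism. -/
theorem dichotomy (hψ : ψ ≠ 1) [DecidableEq F] [Fintype (O2 m F)] (hq : 3 < Fintype.card F) (θ : G →* G)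
    (hθ : ∀ B, ∃ (C : AltM (m + 4) F) (t : Fin (m + 4) → F) (ht : t ⬝ᵥ e 0 = 0),
      C.1 0 1 = 0 ∧ θ (E.x B) = E.x C * E.L (tv (e 0) t ht))
    (hnt : ∃ B, ρ (E.x B) ≠ 1) (hnt' : ∃ B, ρ (θ (E.x B)) ≠ 1)
    (hk : k * (Fintype.card F ^ 2 - 1) <
      (Fintype.card F ^ (m + 4) - 1) * (Fintype.card F ^ (m + 3) + Fintype.card F)) :
    (k + 1) * (Fintype.card F ^ 2 - 1) =
        (Fintype.card F ^ (m + 4) - 1) * (Fintype.card F ^ (m + 3) + Fintype.card F) ∧
      (k : ℂ) - ρ.character (E.x (K0 m F)) = (Fintype.card F : ℂ) ^ (2 * m + 5) := by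
  classical
  obtain ⟨h1, h2⟩ := small E ρ hψ hq hnt hk
  let ρ' : Representation ℂ G (Fin k → ℂ) := MonoidHom.comp ρ θ
  obtain ⟨-, h2'⟩ := small E ρ' hψ hq hnt' hk
  -- the linear group is not trivial on the fixed space
  have hmove : ∃ g, ∃ v ∈ eigS E ψ ρ 0, ρ (E.L g) v ≠ v := by
    by_contra hc
    push Not at hc
    have hK0 : K0 m F ≠ 0 := fun h => by
      simpa [K0, wedge_apply] using congrArg (fun K : AltM (m + 4) F => K.1 0 1) h
    have hd1 : finrank ℂ (eigS E ψ ρ (K0 m F)) = 1 := (h1 _ hK0).1 K0_mem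
    obtain ⟨a, ha0, ha2⟩ : ∃ a : F, a ≠ 0 ∧ a * a ≠ 1 := by
      obtain ⟨a, ha⟩ : ∃ a : F, a ∉ ({0, 1, -1} : Finset F) := by
        by_contra hc
        push Not at hc
        have := (Finset.card_le_card (s := (Finset.univ : Finset F)) fun x _ => hc x).trans Finset.card_le_three
        rw [Finset.card_univ] at this
        omega
      simp only [Finset.mem_insert, Finset.mem_singleton, not_or] at ha
      exact ⟨a, ha.1, fun h => (mul_self_eq_one_iff.1 h).elim ha.2.1 ha.2.2⟩
    have ha1 : a ≠ 1 := fun h => ha2 (by rw [h, one_mul])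
    obtain ⟨v, hv0, hvs⟩ := finrank_eq_one_iff'.1 hd1
    have hvs' : ∀ w ∈ eigS E ψ ρ (K0 m F), ∃ c : ℂ, c • (v : Fin k → ℂ) = w := fun w hw => by
      obtain ⟨c, hc⟩ := hvs ⟨w, hw⟩
      exact ⟨c, congrArg Subtype.val hc⟩
    have htvK : ∀ (t : Fin (m + 4) → F) (ht : t ⬝ᵥ e 0 = 0),
        ρ (E.L (tv (e 0) t ht)) v ∈ eigS E ψ ρ (K0 m F) := by
      intro t ht
      have hK : act (tv (e 0) t ht).1 (K0 m F) = K0 m F := by
        rw [K0, act_wedge, ← smul_eq, ← smul_eq, tv_apply, tv_apply, ht, zero_smul, add_zero]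
        refine Subtype.ext (Matrix.ext fun i j => ?_)
        simp only [wedge_apply, Pi.add_apply, Pi.smul_apply, smul_eq_mul]
        ring
      have := move_mem E ψ ρ (A := (tv (e 0) t ht).1) (E.hL _) v.2
      rwa [hK] at this
    have hfixK : ∀ (t : Fin (m + 4) → F) (ht : t ⬝ᵥ e 0 = 0), ρ (E.L (tv (e 0) t ht)) v = v := by
      intro t ht
      obtain ⟨D, hDK, hD⟩ := exists_torus (m := m) ha0
      have ht0 : t 0 = 0 := by simpa using ht
      let s : Fin (m + 4) → F := fun i => t i / ((if i = 1 then a * a else a) - 1)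
      have hs : s ⬝ᵥ e 0 = 0 := by simp [s, ht0]
      have hcs : (fun i => (if i = 1 then a * a else a) * s i) ⬝ᵥ e 0 = 0 := by simp [s, ht0]
      have hts : tv (e 0) (fun i => (if i = 1 then a * a else a) * s i) hcs = tv (e 0) s hs * tv (e 0) t ht := by
        rw [tv_mul_right]
        refine tv_congr _ _ rfl (funext fun i => ?_)
        have : (if i = 1 then a * a else a) - 1 ≠ 0 := by
          split_ifs
          · exact sub_ne_zero.2 ha2
          · exact sub_ne_zero.2 ha1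
        simp only [s, Pi.add_apply]
        generalize (if i = 1 then a * a else a) = w at this ⊢
        field_simp
        ring
      obtain ⟨μ, hμ⟩ := hvs' (ρ (E.L D) v) (by
        have := move_mem E ψ ρ (A := D.1) (E.hL _) v.2
        rwa [hDK] at this)
      obtain ⟨l, hl⟩ := hvs' _ (htvK s hs)
      have hμ0 : μ ≠ 0 := fun h0 => hv0 (Subtype.ext (by
        have h3 : ρ (E.L D)⁻¹ (ρ (E.L D) v) = v := by
          rw [← Module.End.mul_apply, ← map_mul, inv_mul_cancel, map_one, Module.End.one_apply]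
        rw [← hμ, h0, zero_smul, map_zero] at h3
        exact h3.symm))
      have key : ρ (E.L (tv (e 0) s hs)) (ρ (E.L (tv (e 0) t ht)) v) = ρ (E.L (tv (e 0) s hs)) v := by
        rw [← Module.End.mul_apply, ← map_mul, ← map_mul, ← hts]
        have h3 : μ • ρ (E.L (tv (e 0) (fun i => (if i = 1 then a * a else a) * s i) hcs)) v = μ • l • (v : Fin k → ℂ) := by
          rw [← map_smul, hμ, ← Module.End.mul_apply, ← map_mul, ← map_mul, ← hD s hs hcs, map_mul, map_mul,
            Module.End.mul_apply, ← hl, map_smul, ← hμ, smul_comm]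
        rw [smul_right_injective _ hμ0 h3, hl]
      have h4 := congrArg (ρ (E.L (tv (e 0) s hs))⁻¹) key
      have h5 : ∀ (g : G) (w : Fin k → ℂ), ρ g⁻¹ (ρ g w) = w := fun g w => by
        rw [← Module.End.mul_apply, ← map_mul, inv_mul_cancel, map_one, Module.End.one_apply]
      rwa [h5, h5] at h4
    have hle : eigS E ψ ρ 0 ⊔ eigS E ψ ρ (K0 m F) ≤ eigS E ψ ρ' 0 := by
      refine sup_le (fun w hw => ?_) fun w hw => ?_
      · refine (mem_eigS E ψ ρ').2 fun B => ?_
        obtain ⟨C, t, ht, -, hB⟩ := hθ B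
        show ρ (θ (E.x B)) w = _
        rw [hB, map_mul, Module.End.mul_apply, hc _ w hw, (mem_eigS E ψ ρ).1 hw]
        simp [pair]
      · refine (mem_eigS E ψ ρ').2 fun B => ?_
        obtain ⟨C, t, ht, hC, hB⟩ := hθ B
        obtain ⟨c, rfl⟩ := hvs' w hw
        show ρ (θ (E.x B)) _ = _
        rw [hB, map_mul, Module.End.mul_apply, map_smul, hfixK, map_smul, (mem_eigS E ψ ρ).1 v.2, pair_K0, hC]
        simp [pair, AddChar.map_zero_eq_one]
    have hdis : eigS E ψ ρ 0 ⊓ eigS E ψ ρ (K0 m F) = ⊥ := by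
      refine (Submodule.eq_bot_iff _).2 fun w hw => ?_
      obtain ⟨B, hB⟩ := lam_ne hψ hK0
      have e1 := (mem_eigS E ψ ρ).1 hw.1 B
      have e2 := (mem_eigS E ψ ρ).1 hw.2 B
      rw [e1, show pair (0 : AltM (m + 4) F) B = 0 by simp [pair], AddChar.map_zero_eq_one] at e2
      have e3 : ((1 : ℂ) - ψ (pair (K0 m F) B)) • w = 0 := by rw [sub_smul, ← e2, sub_self]
      exact (smul_eq_zero.1 e3).resolve_left (sub_ne_zero.2 (Ne.symm hB))
    have h3 := Submodule.finrank_sup_add_finrank_inf_eq (eigS E ψ ρ 0) (eigS E ψ ρ (K0 m F))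
    rw [hdis, finrank_bot, add_zero, hd1] at h3
    have h4 := Submodule.finrank_mono hle
    simp only [mult] at h2 h2'
    omega
  obtain ⟨g, v, hv, hgv⟩ := hmove
  -- the fixed space is large
  let π : Representation ℂ (SLn (m + 4) F) (eigS E ψ ρ 0) :=
    { toFun := fun g => (ρ (E.L g)).restrict fun w hw => by
        have := move_mem E ψ ρ (A := g.1) (E.hL g) hw
        rwa [map_zero] at this
      map_one' := by ext w; simp
      map_mul' := fun g g' => by ext w; simp }
  have hf := sl_rep_large π hq ⟨g, ⟨v, hv⟩, fun h => hgv (congrArg Subtype.val h)⟩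
  set q := Fintype.card F with hqdef
  have hN : (q ^ 2 - 1) * Fintype.card (O2 m F) = (q ^ (m + 4) - 1) * (q ^ (m + 3) - 1) := by
    have h := card_O2 (m := m) (F := F)
    rw [← hqdef] at h
    rw [show q ^ (m + 4) - q = q * (q ^ (m + 3) - 1) by rw [Nat.mul_sub, mul_one, pow_succ'], mul_assoc,
      mul_left_comm _ q] at h
    exact Nat.eq_of_mul_eq_mul_left (show 0 < q by omega) h
  obtain ⟨f, hfdef⟩ : ∃ f, f = finrank ℂ (eigS E ψ ρ 0) := ⟨_, rfl⟩
  rw [← hfdef] at hf
  have hdvd : q - 1 ∣ q ^ (m + 4) - q := by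
    rw [show q ^ (m + 4) - q = q * (q ^ (m + 3) - 1) by rw [Nat.mul_sub, mul_one, pow_succ']]
    exact (by simpa using Nat.sub_dvd_pow_sub_pow q 1 (m + 3) : q - 1 ∣ q ^ (m + 3) - 1).mul_left q
  obtain ⟨τ, hτ⟩ := hdvd
  rw [hτ, Nat.mul_div_cancel_left _ (show 0 < q - 1 by omega)] at hf
  have hkeq : k = f + Fintype.card (O2 m F) := by rw [hfdef]; exact h2
  have key : k * (q ^ 2 - 1) + (q ^ 2 - 1) = (q ^ (m + 4) - 1) * (q ^ (m + 3) + q) ∧ f = τ := by
    have hle : (τ + 1) * (q - 1) = q ^ (m + 4) - 1 := by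
      rw [add_mul, one_mul, mul_comm, ← hτ]
      have : q ≤ q ^ (m + 4) := Nat.le_self_pow (by omega) q
      omega
    have hsq : q ^ 2 - 1 = (q - 1) * (q + 1) := by
      rw [mul_comm, ← Nat.sq_sub_sq, one_pow]
    have htot : (q ^ (m + 4) - 1) * (q ^ (m + 3) + q) =
        (q ^ 2 - 1) * Fintype.card (O2 m F) + (q ^ 2 - 1) * (τ + 1) := by
      rw [hN, hsq, mul_assoc (q - 1), mul_comm (q + 1), ← mul_assoc (q - 1), mul_comm (q - 1), hle, ← mul_add]
      congr 1
      have : 1 ≤ q ^ (m + 3) := Nat.one_le_pow _ _ (by omega)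
      omega
    have hfle : f ≤ τ := by
      by_contra h
      have h5 := Nat.mul_le_mul_left (q ^ 2 - 1) (show τ + 1 ≤ f from Nat.lt_of_not_le h)
      have h6 : k * (q ^ 2 - 1) = (q ^ 2 - 1) * f + (q ^ 2 - 1) * Fintype.card (O2 m F) := by rw [hkeq]; ring
      omega
    have hfeq : f = τ := le_antisymm hfle hf
    refine ⟨?_, hfeq⟩
    rw [htot, hkeq, hfeq]
    ring
  refine ⟨by rw [add_mul, one_mul]; exact key.1, ?_⟩
  -- the value at a long root element
  rw [← sum_defect (m := m) hψ, char_eq E ρ hψ]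
  have hkc : (k : ℂ) = ∑ K, (mult E ψ ρ K : ℂ) := by rw [← Nat.cast_sum, sum_mult E ρ hψ]
  rw [hkc, ← Finset.sum_sub_distrib, ← Finset.sum_subset (Finset.subset_univ (O2 m F).toFinset)]
  · rw [Finset.sum_subtype (p := fun K => K ∈ O2 m F) _ (fun K => Set.mem_toFinset)
      fun K => (mult E ψ ρ K : ℂ) - (mult E ψ ρ K : ℂ) * ψ (pair K (K0 m F))]
    refine Finset.sum_congr rfl fun K _ => ?_
    have hK : K.1 ≠ 0 := by
      obtain ⟨A, hA⟩ := K.2
      intro h0
      have := act_injective (show IsUnit A.1.det by rw [A.2]; exact isUnit_one) ((hA.trans h0).trans (map_zero (act A.1)).symm)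
      simpa [K0, wedge_apply] using congrArg (fun K : AltM (m + 4) F => K.1 0 1) this
    rw [(h1 K.1 hK).1 K.2, pair_comm, pair_K0]
    simp
  · intro K _ hK
    by_cases h0 : K = 0
    · simp [h0, pair, AddChar.map_zero_eq_one]
    · rw [(h1 K h0).2 fun h => hK (Set.mem_toFinset.2 h)]
      simp

end Cfsg.Agent.OrthDeg
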